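import Mathlib.RingTheory.Etale.Pi
import Mathlib.RingTheory.Etale.Descent
import Mathlib.RingTheory.Flat.EquationalCriterion
import Mathlib.RingTheory.Spectrum.Prime.Topology
import Mathlib.RingTheory.Localization.Away.Basic
import Mathlib.RingTheory.Localization.Away.Lemmas
import Mathlib.RingTheory.Finiteness.ModuleFinitePresentation
import Mathlib.RingTheory.Ideal.IdempotentFG
import Mathlib.RingTheory.Finiteness.Projective
import Mathlib.RingTheory.Flat.FaithfullyFlat.Algebra
import Mathlib.Algebra.Algebra.Epi
import Mathlib.RingTheory.TensorProduct.Nontrivial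
import Mathlib.RingTheory.LocalRing.ResidueField.Ideal

/-!
Commutative algebra for finite étale algebras: idempotents cutting out kernels, products, connectedness.
-/

set_option autoImplicit false
universe u v

open TensorProduct

namespace Groth.L18.SchFin

section Idem

variable {R : Type u} [CommRing R]

/-- The annihilator of a finite projective module is cut out by an idempotent. -/
theorem exists_idem_annihilator (M : Type v) [AddCommGroup M] [Module R M] [Module.Finite R M]
    [Module.Projective R M] :
    ∃ e : R, IsIdempotentElem e ∧ ∀ a : R, (∀ m : M, a • m = 0) ↔ a * e = 0 := by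
  classical
  obtain ⟨n, π, s, -, -, hπs⟩ := Module.Finite.exists_comp_eq_id_of_projective R M
  have hπs' : ∀ m, π (s m) = m := fun m => LinearMap.congr_fun hπs m
  let P : Fin n → Fin n → R := fun j i => s (π (Pi.single j 1)) i
  let τ : Ideal R := Ideal.span (Set.range fun q : Fin n × Fin n => P q.1 q.2)
  have hrep : ∀ (v : Fin n → R) (i : Fin n), s (π v) i = ∑ j, v j * P j i := by
    intro v i
    conv_lhs => rw [pi_eq_sum_univ' v]
    simp only [map_sum, map_smul, Finset.sum_apply, Pi.smul_apply, smul_eq_mul]
    rfl
  have hP : ∀ j i, P j i = ∑ l, P j l * P l i := by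
    intro j i
    have := hrep (s (π (Pi.single j 1))) i
    rw [hπs'] at this
    exact this
  have hidem : IsIdempotentElem τ := by
    refine le_antisymm Ideal.mul_le_left (Ideal.span_le.mpr ?_)
    rintro _ ⟨⟨j, i⟩, rfl⟩
    rw [SetLike.mem_coe]
    show P j i ∈ τ * τ
    rw [hP]
    exact Ideal.sum_mem _ fun l _ =>
      Ideal.mul_mem_mul (Ideal.subset_span ⟨(j, l), rfl⟩) (Ideal.subset_span ⟨(l, i), rfl⟩)
  obtain ⟨e, he, hτ⟩ := (Ideal.isIdempotentElem_iff_of_fg τ
    (Submodule.fg_span (Set.finite_range _))).mp hidem
  refine ⟨e, he, fun a => ⟨fun ha => ?_, fun ha m => ?_⟩⟩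
  · have hz : ∀ t ∈ τ, a * t = 0 := by
      intro t ht
      induction ht using Submodule.span_induction with
      | mem t ht =>
        obtain ⟨⟨j, i⟩, rfl⟩ := ht
        have := congrArg (fun m => s m i) (ha (π (Pi.single j 1)))
        simpa [P] using this
      | zero => simp
      | add x y _ _ hx hy => rw [mul_add, hx, hy, add_zero]
      | smul c x _ hx => rw [smul_eq_mul, mul_left_comm, hx, mul_zero]
    exact hz e (by rw [hτ]; exact Ideal.mem_span_singleton_self e)
  · have hfix : ∀ t ∈ τ, a * t = 0 := by
      intro t ht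
      rw [hτ] at ht
      obtain ⟨c, rfl⟩ := Ideal.mem_span_singleton'.mp ht
      rw [mul_left_comm, ha, mul_zero]
    have h0 : a • s m = 0 := by
      funext i
      have h1 := hrep (s m) i
      rw [hπs'] at h1
      rw [Pi.smul_apply, smul_eq_mul, h1, Finset.mul_sum]
      exact Finset.sum_eq_zero fun j _ => by
        rw [mul_left_comm, hfix _ (Ideal.subset_span ⟨(j, i), rfl⟩), mul_zero]
    have := congrArg π h0
    rwa [map_smul, hπs', map_zero] at this

/-- The idempotents of a ring with connected spectrum are trivial. -/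
theorem eq_zero_or_one_of_connected [ConnectedSpace (PrimeSpectrum R)] {e : R} (he : IsIdempotentElem e) :
    e = 0 ∨ e = 1 := by
  rcases isClopen_iff.mp (PrimeSpectrum.isClopen_iff.mpr ⟨e, he, rfl⟩) with h | h
  · exact Or.inl (PrimeSpectrum.basicOpen_injOn_isIdempotentElem he IsIdempotentElem.zero
      (SetLike.ext' (by simpa using h)))
  · exact Or.inr (PrimeSpectrum.basicOpen_injOn_isIdempotentElem he IsIdempotentElem.one
      (SetLike.ext' (by simpa using h)))

theorem connectedSpace_of_idem [Nontrivial R] (h : ∀ e : R, IsIdempotentElem e → e = 0 ∨ e = 1) :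
    ConnectedSpace (PrimeSpectrum R) := by
  haveI : PreconnectedSpace (PrimeSpectrum R) := preconnectedSpace_iff_clopen.mpr fun s hs => by
    obtain ⟨e, he, rfl⟩ := PrimeSpectrum.isClopen_iff.mp hs
    rcases h e he with rfl | rfl <;> simp
  exact { toNonempty := inferInstance }

theorem nontrivial_of_connected [ConnectedSpace (PrimeSpectrum R)] : Nontrivial R :=
  let ⟨P⟩ := (inferInstance : Nonempty (PrimeSpectrum R))
  nontrivial_of_ne (0 : R) 1 fun h => P.2.ne_top
    ((Ideal.eq_top_iff_one _).mpr (h ▸ P.asIdeal.zero_mem))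

end Idem

section FiniteEtale

variable {R A B : Type u} [CommRing R] [CommRing A] [CommRing B] [Algebra R A] [Algebra R B]

/-- A morphism of finite étale algebras makes the target finite projective over the source. -/
theorem projective_of_algHom [Algebra.Etale R A] [Algebra.Etale R B] [Module.Finite R B]
    (f : A →ₐ[R] B) : letI := f.toRingHom.toAlgebra; Module.Finite A B ∧ Module.Projective A B := by
  letI := f.toRingHom.toAlgebra
  haveI : IsScalarTower R A B := IsScalarTower.of_algebraMap_eq fun r => (f.commutes r).symm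
  haveI : Algebra.Etale A B := Algebra.Etale.of_restrictScalars R A B
  haveI : Module.Finite A B := Module.Finite.of_restrictScalars_finite R A B
  haveI : Module.FinitePresentation A B := Module.FinitePresentation.of_finite_of_finitePresentation A B
  exact ⟨inferInstance, Module.Flat.projective_of_finitePresentation⟩

/-- The kernel of a morphism of finite étale algebras is cut out by an idempotent. -/
theorem exists_idem_ker [Algebra.Etale R A] [Algebra.Etale R B] [Module.Finite R B] (f : A →ₐ[R] B) :
    ∃ e : A, IsIdempotentElem e ∧ ∀ a : A, f a = 0 ↔ a * e = 0 := by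
  letI := f.toRingHom.toAlgebra
  obtain ⟨_, _⟩ := projective_of_algHom f
  obtain ⟨e, he, h⟩ := exists_idem_annihilator (R := A) B
  refine ⟨e, he, fun a => ?_⟩
  rw [← h a]
  refine ⟨fun ha m => ?_, fun ha => ?_⟩
  · rw [Algebra.smul_def]; show f a * m = 0; rw [ha, zero_mul]
  · have := ha 1
    rw [Algebra.smul_def, mul_one] at this
    exact this

theorem mem_span_one_sub_iff {e : A} (he : IsIdempotentElem e) {a : A} :
    a ∈ Ideal.span {1 - e} ↔ a * e = 0 := by
  refine ⟨fun ha => ?_, fun ha => Ideal.mem_span_singleton'.mpr ⟨a, ?_⟩⟩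
  · obtain ⟨c, rfl⟩ := Ideal.mem_span_singleton'.mp ha
    rw [mul_assoc, he.one_sub_mul_self, mul_zero]
  · rw [mul_sub, mul_one, ha, sub_zero]

/-- A direct factor of a finite étale algebra is finite étale. -/
theorem etale_quotient_one_sub [Algebra.Etale R A] {e : A} (he : IsIdempotentElem e) :
    Algebra.Etale R (A ⧸ Ideal.span {1 - e}) := by
  haveI := IsLocalization.Away.quotient_of_isIdempotentElem he
  haveI : Algebra.Etale A (A ⧸ Ideal.span {1 - e}) := Algebra.Etale.of_isLocalizationAway e
  exact Algebra.Etale.comp R A _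

theorem etale_prod [Algebra.Etale R A] [Algebra.Etale R B] : Algebra.Etale R (A × B) := by
  let F : ULift.{u} Bool → Type u := fun b => cond b.down A B
  letI : ∀ b, CommRing (F b) := fun b => by
    rcases b with ⟨_ | _⟩
    exacts [(inferInstance : CommRing B), (inferInstance : CommRing A)]
  letI : ∀ b, Algebra R (F b) := fun b => by
    rcases b with ⟨_ | _⟩
    exacts [(inferInstance : Algebra R B), (inferInstance : Algebra R A)]
  haveI : ∀ b, Algebra.Etale R (F b) := fun b => by
    rcases b with ⟨_ | _⟩
    exacts [(inferInstance : Algebra.Etale R B), (inferInstance : Algebra.Etale R A)]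
  let g : (∀ b, F b) →ₐ[R] A × B :=
    (Pi.evalAlgHom R F ⟨true⟩).prod (Pi.evalAlgHom R F ⟨false⟩)
  refine Algebra.Etale.of_equiv (AlgEquiv.ofBijective g ⟨fun x y h => ?_, fun p => ?_⟩)
  · funext b
    rcases b with ⟨_ | _⟩
    exacts [congrArg Prod.snd h, congrArg Prod.fst h]
  · exact ⟨fun b => match b with
      | ⟨false⟩ => p.2
      | ⟨true⟩ => p.1, rfl⟩

theorem etale_of_subsingleton [Subsingleton A] : Algebra.Etale R A :=
  haveI : IsLocalization.Away (0 : R) A :=
    IsLocalization.Away.mk (0 : R) (isUnit_of_subsingleton _) (fun _ => ⟨0, 0, Subsingleton.elim _ _⟩)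
      (fun _ _ _ => ⟨1, by simp⟩)
  Algebra.Etale.of_isLocalizationAway 0

end FiniteEtale

section Epi

variable {A B : Type u} [CommRing A] [CommRing B] [Algebra A B]

/-- A faithfully flat epimorphism is an isomorphism. -/
theorem bijective_of_faithfullyFlat_of_isEpi [Module.FaithfullyFlat A B] [Algebra.IsEpi A B] :
    Function.Bijective (algebraMap A B) := by
  refine ⟨FaithfulSMul.algebraMap_injective A B, ?_⟩
  refine (Module.FaithfullyFlat.lTensor_surjective_iff_surjective A B (Algebra.linearMap A B)).mp ?_
  intro t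
  refine ⟨TensorProduct.lid' A B B t ⊗ₜ 1, ?_⟩
  apply (TensorProduct.lid' A B B).injective
  simp

end Epi

end Groth.L18.SchFin

namespace Groth.L18.SchFin

/-- Two primes with the same contraction are the contractions of a prime of the tensor product. -/
theorem exists_prime_tensor {R A B : Type u} [CommRing R] [CommRing A] [CommRing B] [Algebra R A]
    [Algebra R B] (P : PrimeSpectrum A) (Q : PrimeSpectrum B)
    (h : PrimeSpectrum.comap (algebraMap R A) P = PrimeSpectrum.comap (algebraMap R B) Q) :
    ∃ r : PrimeSpectrum (A ⊗[R] B),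
      PrimeSpectrum.comap (Algebra.TensorProduct.includeLeft (S := R)).toRingHom r = P ∧
        PrimeSpectrum.comap (Algebra.TensorProduct.includeRight).toRingHom r = Q := by
  let p := PrimeSpectrum.comap (algebraMap R A) P
  let u : p.asIdeal.ResidueField →+* P.asIdeal.ResidueField :=
    Ideal.ResidueField.map _ _ (algebraMap R A) rfl
  let v : p.asIdeal.ResidueField →+* Q.asIdeal.ResidueField :=
    Ideal.ResidueField.map _ _ (algebraMap R B) (congrArg PrimeSpectrum.asIdeal h)
  letI := u.toAlgebra
  letI := v.toAlgebra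
  let T := P.asIdeal.ResidueField ⊗[p.asIdeal.ResidueField] Q.asIdeal.ResidueField
  haveI : Nontrivial T := Algebra.TensorProduct.nontrivial_of_algebraMap_injective_of_isDomain
    _ _ _ u.injective v.injective
  let f : A →+* T := Algebra.TensorProduct.includeLeftRingHom.comp (algebraMap A P.asIdeal.ResidueField)
  let g : B →+* T := Algebra.TensorProduct.includeRight.toRingHom.comp (algebraMap B Q.asIdeal.ResidueField)
  letI : Algebra R T := (f.comp (algebraMap R A)).toAlgebra
  have hu : ∀ r, u (algebraMap R p.asIdeal.ResidueField r) =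
      algebraMap A P.asIdeal.ResidueField (algebraMap R A r) := fun r =>
    Ideal.ResidueField.map_algebraMap _ _ _ _ r
  have hv : ∀ r, v (algebraMap R p.asIdeal.ResidueField r) =
      algebraMap B Q.asIdeal.ResidueField (algebraMap R B r) := fun r =>
    Ideal.ResidueField.map_algebraMap _ _ _ _ r
  have hg : ∀ r, g (algebraMap R B r) = f (algebraMap R A r) := fun r => by
    show (1 : P.asIdeal.ResidueField) ⊗ₜ[p.asIdeal.ResidueField] (algebraMap B Q.asIdeal.ResidueField
        (algebraMap R B r)) = algebraMap A P.asIdeal.ResidueField (algebraMap R A r) ⊗ₜ 1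
    rw [← hu, ← hv]
    exact (Algebra.TensorProduct.tmul_one_eq_one_tmul _).symm
  let fA : A →ₐ[R] T := { f with commutes' := fun _ => rfl }
  let gA : B →ₐ[R] T := { g with commutes' := hg }
  obtain ⟨m, hm⟩ := Ideal.exists_maximal T
  refine ⟨⟨m.comap (Algebra.TensorProduct.productMap fA gA).toRingHom, inferInstance⟩, ?_, ?_⟩
  all_goals haveI := hm.isPrime
  · refine PrimeSpectrum.ext (Ideal.ext fun a => ?_)
    show Algebra.TensorProduct.productMap fA gA (a ⊗ₜ 1) ∈ m ↔ a ∈ P.asIdeal
    rw [Algebra.TensorProduct.productMap_apply_tmul, map_one, mul_one,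
      ← Ideal.algebraMap_residueField_eq_zero (I := P.asIdeal)]
    show algebraMap A _ a ∈ m.comap (Algebra.TensorProduct.includeLeftRingHom :
      P.asIdeal.ResidueField →+* T) ↔ _
    rw [(Ideal.eq_bot_or_top (m.comap (Algebra.TensorProduct.includeLeftRingHom :
      P.asIdeal.ResidueField →+* T))).resolve_right (Ideal.comap_ne_top _ hm.ne_top), Ideal.mem_bot]
  · refine PrimeSpectrum.ext (Ideal.ext fun a => ?_)
    show Algebra.TensorProduct.productMap fA gA (1 ⊗ₜ a) ∈ m ↔ a ∈ Q.asIdeal
    rw [Algebra.TensorProduct.productMap_apply_tmul, map_one, one_mul,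
      ← Ideal.algebraMap_residueField_eq_zero (I := Q.asIdeal)]
    show algebraMap B _ a ∈ m.comap (Algebra.TensorProduct.includeRight.toRingHom :
      Q.asIdeal.ResidueField →+* T) ↔ _
    rw [(Ideal.eq_bot_or_top (m.comap (Algebra.TensorProduct.includeRight.toRingHom :
      Q.asIdeal.ResidueField →+* T))).resolve_right (Ideal.comap_ne_top _ hm.ne_top), Ideal.mem_bot]

end Groth.L18.SchFin
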