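import Groth.Agent.L18.SchFin.Cat
import Mathlib.LinearAlgebra.TensorProduct.Pi
import Mathlib.RingTheory.Etale.Descent
import Mathlib.RingTheory.RingHom.FaithfullyFlat
import Mathlib.LinearAlgebra.DFinsupp

/-!
Quasi-coherent modules and algebras over an affine up-closed set of a finite ringed poset.
-/

set_option autoImplicit false
universe u

open TensorProduct SchFin

namespace Groth.L18.SchFin

section Pi

variable {S : Type u} [CommRing S] {ι : Type u} [Finite ι] (R : ι → Type u) [∀ i, CommRing (R i)]
  [∀ i, Algebra S (R i)] [hff : Module.FaithfullyFlat S (∀ i, R i)]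

include hff in
theorem bijective_of_lTensor {M N : Type u} [AddCommGroup M] [AddCommGroup N] [Module S M] [Module S N]
    (f : M →ₗ[S] N) (h : ∀ i, Function.Bijective (LinearMap.lTensor (R i) f)) : Function.Bijective f := by
  classical
  haveI := Fintype.ofFinite ι
  rw [← Module.FaithfullyFlat.lTensor_bijective_iff_bijective S (∀ i, R i)]
  let eM := TensorProduct.piLeft (R := S) (N := M) (M := R)
  let eN := TensorProduct.piLeft (R := S) (N := N) (M := R)
  have key : ∀ z i, eN (LinearMap.lTensor (∀ i, R i) f z) i = LinearMap.lTensor (R i) f (eM z i) := by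
    intro z i
    induction z using TensorProduct.induction_on with
    | zero => simp
    | tmul r m => simp [eN, eM]
    | add z z' hz hz' => simp only [map_add, Pi.add_apply, hz, hz']
  constructor
  · intro z z' hzz
    exact eM.injective (funext fun i => (h i).1 (by rw [← key, ← key, hzz]))
  · intro w
    choose v hv using fun i => (h i).2 (eN w i)
    refine ⟨eM.symm v, eN.injective (funext fun i => ?_)⟩
    rw [key, LinearEquiv.apply_symm_apply, hv]

include hff in
theorem surjective_of_lTensor {M N : Type u} [AddCommGroup M] [AddCommGroup N] [Module S M] [Module S N]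
    (f : M →ₗ[S] N) (h : ∀ i, Function.Surjective (LinearMap.lTensor (R i) f)) : Function.Surjective f := by
  classical
  haveI := Fintype.ofFinite ι
  rw [← Module.FaithfullyFlat.lTensor_surjective_iff_surjective S (∀ i, R i)]
  let eM := TensorProduct.piLeft (R := S) (N := M) (M := R)
  let eN := TensorProduct.piLeft (R := S) (N := N) (M := R)
  have key : ∀ z i, eN (LinearMap.lTensor (∀ i, R i) f z) i = LinearMap.lTensor (R i) f (eM z i) := by
    intro z i
    induction z using TensorProduct.induction_on with
    | zero => simp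
    | tmul r m => simp [eN, eM]
    | add z z' hz hz' => simp only [map_add, Pi.add_apply, hz, hz']
  intro w
  choose v hv using fun i => h i (eN w i)
  refine ⟨eM.symm v, eN.injective (funext fun i => ?_)⟩
  rw [key, LinearEquiv.apply_symm_apply, hv]

include hff in
theorem finite_of_factors {T : Type u} [AddCommGroup T] [Module S T]
    (h : ∀ i, Module.Finite (R i) (R i ⊗[S] T)) : Module.Finite S T := by
  classical
  haveI := Fintype.ofFinite ι
  have hex : ∀ i, ∃ s : Finset (R i ⊗[S] T), Submodule.span (R i) (s : Set (R i ⊗[S] T)) = ⊤ :=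
    fun i => (h i).fg_top
  choose g hg using hex
  have hfin : ∀ i (z : R i ⊗[S] T), ∃ W : Submodule S T, W.FG ∧
      z ∈ LinearMap.range (LinearMap.lTensor (R i) W.subtype) := by
    intro i z
    induction z using TensorProduct.induction_on with
    | zero => exact ⟨⊥, Submodule.fg_bot, Submodule.zero_mem _⟩
    | tmul r t => exact ⟨Submodule.span S {t}, Submodule.fg_span_singleton t,
        ⟨r ⊗ₜ ⟨t, Submodule.mem_span_singleton_self t⟩, rfl⟩⟩
    | add z z' hz hz' =>
      obtain ⟨W, hW, hz⟩ := hz
      obtain ⟨W', hW', hz'⟩ := hz'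
      refine ⟨W ⊔ W', hW.sup hW', Submodule.add_mem _ ?_ ?_⟩
      · obtain ⟨v, rfl⟩ := hz
        refine ⟨LinearMap.lTensor (R i) (Submodule.inclusion le_sup_left) v, ?_⟩
        rw [← LinearMap.lTensor_comp_apply]; rfl
      · obtain ⟨v, rfl⟩ := hz'
        refine ⟨LinearMap.lTensor (R i) (Submodule.inclusion le_sup_right) v, ?_⟩
        rw [← LinearMap.lTensor_comp_apply]; rfl
  choose W hW hmem using fun (i : ι) (z : g i) => hfin i z.1
  let V : Submodule S T := ⨆ q : Σ i, g i, W q.1 q.2
  have hV : V.FG := Submodule.fg_iSup _ fun q => hW q.1 q.2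
  haveI : Module.Finite S V := Module.Finite.iff_fg.mpr hV
  refine Module.Finite.of_surjective V.subtype (surjective_of_lTensor R V.subtype fun i w => ?_)
  let f : R i ⊗[S] V →ₗ[R i] R i ⊗[S] T := AlgebraTensorModule.lTensor (R i) (R i) V.subtype
  have hf : LinearMap.range f = ⊤ := by
    refine top_le_iff.mp (hg i ▸ Submodule.span_le.mpr fun z hz => ?_)
    obtain ⟨v, hv⟩ := hmem i ⟨z, hz⟩
    refine ⟨LinearMap.lTensor (R i) (Submodule.inclusion (le_iSup (fun q : Σ i, g i => W q.1 q.2) ⟨i, ⟨z, hz⟩⟩)) v, ?_⟩
    show LinearMap.lTensor (R i) V.subtype _ = z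
    rw [← LinearMap.lTensor_comp_apply]
    exact hv
  obtain ⟨v, hv⟩ := LinearMap.range_eq_top.mp hf w
  exact ⟨v, hv⟩

include hff in
theorem flat_factor (i : ι) : Module.Flat S (R i) := by
  classical
  exact Module.Flat.of_retract (LinearMap.single S R i) (LinearMap.proj i) (LinearMap.ext fun x => Pi.single_eq_same i x)

include hff in
theorem flat_of_factors {T : Type u} [AddCommGroup T] [Module S T]
    (h : ∀ i, Module.Flat (R i) (R i ⊗[S] T)) : Module.Flat S T := by
  classical
  haveI := Fintype.ofFinite ι
  rw [Module.Flat.iff_lTensor_preserves_injective_linearMap]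
  intro N N' _ _ _ _ f hf
  rw [← Module.FaithfullyFlat.lTensor_injective_iff_injective S (∀ i, R i)]
  let eN := TensorProduct.piLeft (R := S) (N := (T ⊗[S] N)) (M := R)
  let eN' := TensorProduct.piLeft (R := S) (N := (T ⊗[S] N')) (M := R)
  have key : ∀ z i, eN' (LinearMap.lTensor (∀ i, R i) (LinearMap.lTensor T f) z) i =
      LinearMap.lTensor (R i) (LinearMap.lTensor T f) (eN z i) := by
    intro z i
    induction z using TensorProduct.induction_on with
    | zero => simp
    | tmul r m => simp [eN, eN']
    | add z z' hz hz' => simp only [map_add, Pi.add_apply, hz, hz']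
  intro z z' hzz
  refine eN.injective (funext fun i => ?_)
  haveI : Module.Flat S (R i) := flat_factor R i
  haveI := h i
  haveI : Module.Flat S (R i ⊗[S] T) := Module.Flat.trans S (R i) _
  have h1 := Module.Flat.lTensor_preserves_injective_linearMap (M := R i ⊗[S] T) f hf
  have h2 : ∀ y, LinearMap.lTensor (R i) (LinearMap.lTensor T f) y =
      TensorProduct.assoc S (R i) T N' (LinearMap.lTensor (R i ⊗[S] T) f ((TensorProduct.assoc S (R i) T N).symm y)) := by
    intro y
    induction y using TensorProduct.induction_on with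
    | zero => simp
    | tmul r x =>
      induction x using TensorProduct.induction_on with
      | zero => simp
      | tmul t n => simp
      | add x x' hx hx' => simp only [TensorProduct.tmul_add, map_add, hx, hx']
    | add y y' hy hy' => simp only [map_add, hy, hy']
  have h3 := (key z i).symm.trans ((congrArg (fun t => eN' t i) hzz).trans (key z' i))
  rw [h2, h2] at h3
  exact (TensorProduct.assoc S (R i) T N).symm.injective (h1 ((TensorProduct.assoc S (R i) T N').injective h3))

/-- a factor of a finite product is étale over it -/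
theorem etale_factor {P : Type u} [CommRing P] (i : ι) [Algebra P (R i)] (e : (∀ j, R j) ≃+* P)
    (he : ∀ x, algebraMap P (R i) (e x) = x i) : Algebra.Etale P (R i) := by
  classical
  let d : P := e (Pi.single i 1)
  have hd : IsIdempotentElem d := by
    show e _ * e _ = e _
    rw [← map_mul, ← Pi.single_mul, mul_one]
  haveI := etale_quotient_one_sub (R := P) (A := P) hd
  have hs : Function.Surjective (Algebra.ofId P (R i)) := fun r => ⟨e (Pi.single i r), (he _).trans (Pi.single_eq_same i r)⟩
  have hk : RingHom.ker (Algebra.ofId P (R i)) = Ideal.span {1 - d} := by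
    ext y
    obtain ⟨x, rfl⟩ := e.surjective y
    rw [mem_span_one_sub_iff hd, RingHom.mem_ker]
    show algebraMap P (R i) (e x) = 0 ↔ _
    rw [he, ← map_mul, map_eq_zero_iff e e.injective]
    refine ⟨fun h => funext fun j => ?_, fun h => ?_⟩
    · by_cases hj : j = i
      · subst hj; simp [h]
      · simp [hj]
    · simpa using congrFun h i
  exact Algebra.Etale.of_equiv ((Ideal.quotientEquivAlgOfEq P hk.symm).trans
    (Ideal.quotientKerAlgEquivOfSurjective hs))

include hff in
theorem etale_of_factors {T : Type u} [CommRing T] [Algebra S T]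
    (h : ∀ i, Algebra.Etale (R i) (R i ⊗[S] T)) : Algebra.Etale S T := by
  classical
  haveI := Fintype.ofFinite ι
  letI : ∀ i, Algebra (∀ j, R j) (R i) := fun i => (Pi.evalRingHom R i).toAlgebra
  haveI : ∀ i, IsScalarTower S (∀ j, R j) (R i) := fun i => IsScalarTower.of_algebraMap_eq fun _ => rfl
  haveI : ∀ i, Algebra.Etale (∀ j, R j) (R i ⊗[S] T) := fun i => by
    haveI := etale_factor R i (RingEquiv.refl (∀ j, R j)) (fun _ => rfl)
    haveI := h i
    exact Algebra.Etale.comp (∀ j, R j) (R i) (R i ⊗[S] T)
  let Φ : (∀ j, R j) ⊗[S] T →ₐ[∀ j, R j] ∀ i, R i ⊗[S] T :=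
    { toFun := TensorProduct.piLeft (R := S) (N := T) (M := R)
      map_one' := funext fun i => by simp [Algebra.TensorProduct.one_def]
      map_mul' := fun x y => by
        induction x using TensorProduct.induction_on with
        | zero => simp
        | add x x' hx hx' => simp only [add_mul, map_add, hx, hx']
        | tmul r t =>
          induction y using TensorProduct.induction_on with
          | zero => simp
          | add y y' hy hy' => simp only [mul_add, map_add, hy, hy']
          | tmul r' t' => funext i; simp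
      map_zero' := map_zero _
      map_add' := map_add _
      commutes' := fun r => funext fun i => by
        simp [Algebra.TensorProduct.algebraMap_apply]
        rfl }
  haveI : Algebra.Etale (∀ j, R j) (∀ i, R i ⊗[S] T) :=
    { formallyEtale := (Algebra.FormallyEtale.pi_iff (R := ∀ j, R j) (fun i => R i ⊗[S] T)).mpr fun i => inferInstance,
      finitePresentation := Algebra.FinitePresentation.pi (fun i => R i ⊗[S] T) }
  haveI : Algebra.Etale (∀ j, R j) ((∀ j, R j) ⊗[S] T) :=
    Algebra.Etale.of_equiv (AlgEquiv.ofBijective Φ (TensorProduct.piLeft (R := S) (N := T) (M := R)).bijective).symm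
  exact Algebra.Etale.of_etale_tensorProduct_of_faithfullyFlat (∀ j, R j)

include hff in
theorem exists_prime_factor (p : PrimeSpectrum S) :
    ∃ (i : ι) (r : PrimeSpectrum (R i)), PrimeSpectrum.comap (algebraMap S (R i)) r = p := by
  obtain ⟨t, ht⟩ := PrimeSpectrum.comap_surjective_of_faithfullyFlat (A := S) (B := ∀ i, R i) p
  obtain ⟨⟨i, r⟩, rfl⟩ := (PrimeSpectrum.sigmaToPi_bijective _).2 t
  exact ⟨i, r, ht⟩

end Pi

section Affine

variable {X : RSpace.{u}} {U : Set X.pt}

/-- sections over a set as algebra of coefficients at one of its points -/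
@[reducible] def evalAlg (U : Set X.pt) (q : U) : Algebra (X.sectRing U) (X.ring q.1) :=
  (X.evalRing U q).toAlgebra

theorem ff_evalAlg (hff : Module.FaithfullyFlat (X.sectRing U) ((q : ↥U) → X.ring q.1)) :
    letI : ∀ q : U, Algebra (X.sectRing U) (X.ring q.1) := fun q => evalAlg U q
    Module.FaithfullyFlat (X.sectRing U) ((q : ↥U) → X.ring q.1) := by
  letI : ∀ q : U, Algebra (X.sectRing U) (X.ring q.1) := fun q => evalAlg U q
  convert hff using 1
  exact Module.ext' _ _ fun r x => rfl

theorem counit_bijective (hUa : (X.restrict U).IsAffine) (M : OMod X) (hM : M.IsQcoh) (q : U) :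
    letI := evalAlg U q
    letI : Module (X.sectRing U) (M.carrier q.1) := Module.compHom _ (X.evalRing U q)
    ∀ f : X.ring q.1 ⊗[X.sectRing U] M.sect U →ₗ[X.sectRing U] M.carrier q.1,
      (∀ t s, f (t ⊗ₜ s) = t • s.1 q) → Function.Bijective f := by
  letI := evalAlg U q
  letI : Module (X.sectRing U) (M.carrier q.1) := Module.compHom _ (X.evalRing U q)
  intro f hf
  let Y := X.restrict U
  let N := M.restrict U
  letI iA : Algebra (Y.sectRing Set.univ) (Y.ring q) := (Y.evalRing Set.univ ⟨q, trivial⟩).toAlgebra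
  letI : Module (Y.sectRing Set.univ) (N.carrier q) := Module.compHom _ (Y.evalRing Set.univ ⟨q, trivial⟩)
  haveI : IsScalarTower (Y.sectRing Set.univ) (Y.ring q) (N.carrier q) :=
    IsScalarTower.of_algebraMap_smul fun _ _ => rfl
  have hb : IsBaseChange (Y.ring q)
      ({ toFun := N.evalMod Set.univ ⟨q, trivial⟩, map_add' := map_add _,
         map_smul' := (N.evalMod Set.univ ⟨q, trivial⟩).map_smulₛₗ } :
        N.sect Set.univ →ₗ[Y.sectRing Set.univ] N.carrier q) :=
    hUa.2.2.1 N (fun a b h => hM a.1 b.1 h) q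
  let cS : Y.sectRing Set.univ → X.sectRing U := fun a => ⟨fun x => a.1 ⟨x, trivial⟩, fun x y h => a.2 ⟨x, trivial⟩ ⟨y, trivial⟩ h⟩
  let cM : N.sect Set.univ →+ M.sect U :=
    { toFun := fun a => ⟨fun x => a.1 ⟨x, trivial⟩, fun x y h => a.2 ⟨x, trivial⟩ ⟨y, trivial⟩ h⟩
      map_zero' := rfl
      map_add' := fun _ _ => rfl }
  let θ : Y.ring q ⊗[Y.sectRing Set.univ] N.sect Set.univ →+ X.ring q.1 ⊗[X.sectRing U] M.sect U :=
    TensorProduct.liftAddHom
      { toFun := fun t =>
          ({ toFun := fun a => (t : X.ring q.1) ⊗ₜ cM a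
             map_zero' := by rw [map_zero, TensorProduct.tmul_zero]
             map_add' := fun a b => by rw [map_add, TensorProduct.tmul_add] } :
            N.sect Set.univ →+ X.ring q.1 ⊗[X.sectRing U] M.sect U)
        map_zero' := AddMonoidHom.ext fun a => TensorProduct.zero_tmul _ _
        map_add' := fun s t => AddMonoidHom.ext fun a => TensorProduct.add_tmul _ _ _ }
      fun r t a => by
        show (cS r • (t : X.ring q.1)) ⊗ₜ[X.sectRing U] cM a = (t : X.ring q.1) ⊗ₜ (cS r • cM a)
        exact TensorProduct.smul_tmul _ _ _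
  have hθ : ∀ t a, θ (t ⊗ₜ a) = (t : X.ring q.1) ⊗ₜ cM a := fun _ _ => rfl
  have hθs : Function.Surjective θ := fun z => by
    induction z using TensorProduct.induction_on with
    | zero => exact ⟨0, map_zero _⟩
    | tmul t s => exact ⟨(t : Y.ring q) ⊗ₜ ⟨fun x => s.1 x.1, fun x y h => s.2 x.1 y.1 h⟩, rfl⟩
    | add z z' hz hz' =>
      obtain ⟨w, rfl⟩ := hz; obtain ⟨w', rfl⟩ := hz'; exact ⟨w + w', map_add _ _ _⟩
  have hcomp : ∀ z, f (θ z) = hb.equiv z := fun z => by
    induction z using TensorProduct.induction_on with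
    | zero => rw [map_zero, map_zero, map_zero]; rfl
    | tmul t a => rw [hθ, hf, hb.equiv_tmul]; rfl
    | add z z' hz hz' => rw [map_add, map_add, map_add, hz, hz']; rfl
  refine ⟨fun z z' h => ?_, fun m => ?_⟩
  · obtain ⟨w, rfl⟩ := hθs z
    obtain ⟨w', rfl⟩ := hθs z'
    rw [hcomp, hcomp] at h
    rw [hb.equiv.injective h]
  · obtain ⟨w, hw⟩ := hb.equiv.surjective m
    exact ⟨θ w, (hcomp w).trans hw⟩

theorem isBCAlong_resSect (x : X.pt) (hU : U ⊆ X.up x) (hUa : (X.restrict U).IsAffine)
    (hff : Module.FaithfullyFlat (X.sectRing U) ((q : ↥U) → X.ring q.1)) (M : OMod X) (hM : M.IsQcoh) :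
    IsBCAlong (X.resSect x U hU) (M.resSect x U hU) := by
  letI iS : Algebra (X.ring x) (X.sectRing U) := (X.resSect x U hU).toAlgebra
  letI : Module (X.ring x) (M.sect U) := Module.compHom _ (X.resSect x U hU)
  haveI : IsScalarTower (X.ring x) (X.sectRing U) (M.sect U) := IsScalarTower.of_algebraMap_smul fun _ _ => rfl
  let r : M.carrier x →ₗ[X.ring x] M.sect U :=
    { toFun := M.resSect x U hU, map_add' := map_add _, map_smul' := (M.resSect x U hU).map_smulₛₗ }
  let Φ : X.sectRing U ⊗[X.ring x] M.carrier x →ₗ[X.sectRing U] M.sect U :=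
    AlgebraTensorModule.lift (((Algebra.linearMap (X.sectRing U) <| Module.End (X.sectRing U)
      (M.carrier x →ₗ[X.ring x] M.sect U)).flip r).restrictScalars (X.sectRing U))
  have hΦ : ∀ s m, Φ (s ⊗ₜ m) = s • M.resSect x U hU m := fun s m => by
    simp [Φ, r]
  haveI : Finite ↥U := inferInstance
  letI : ∀ q : U, Algebra (X.sectRing U) (X.ring q.1) := fun q => evalAlg U q
  haveI : Module.FaithfullyFlat (X.sectRing U) ((q : ↥U) → X.ring q.1) := ff_evalAlg hff
  refine IsBaseChange.of_equiv (LinearEquiv.ofBijective Φ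
    (bijective_of_lTensor (fun q : U => X.ring q.1) Φ fun q => ?_)) fun m => (hΦ 1 m).trans (one_smul _ _)
  letI : Module (X.sectRing U) (M.carrier q.1) := Module.compHom _ (X.evalRing U q)
  haveI : IsScalarTower (X.sectRing U) (X.ring q.1) (M.carrier q.1) :=
    IsScalarTower.of_algebraMap_smul fun _ _ => rfl
  let ev : M.sect U →ₗ[X.sectRing U] M.carrier q.1 :=
    { toFun := fun s => s.1 q, map_add' := fun _ _ => rfl, map_smul' := fun _ _ => rfl }
  let f : X.ring q.1 ⊗[X.sectRing U] M.sect U →ₗ[X.sectRing U] M.carrier q.1 :=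
    TensorProduct.lift ((LinearMap.lsmul (X.ring q.1) (M.carrier q.1)).restrictScalars₁₂ (X.sectRing U) (X.sectRing U)
      |>.compl₂ ev)
  have hf : ∀ t s, f (t ⊗ₜ s) = t • s.1 q := fun _ _ => rfl
  have hfb := counit_bijective hUa M hM q f hf
  letI := resAlg X (hU q.2)
  haveI : IsScalarTower (X.ring x) (X.sectRing U) (X.ring q.1) := IsScalarTower.of_algebraMap_eq fun _ => rfl
  letI : Module (X.ring x) (M.carrier q.1) := Module.compHom _ (X.res (hU q.2))
  haveI : IsScalarTower (X.ring x) (X.ring q.1) (M.carrier q.1) := IsScalarTower.of_algebraMap_smul fun _ _ => rfl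
  have hb : IsBaseChange (X.ring q.1)
      ({ toFun := M.res (hU q.2), map_add' := map_add _, map_smul' := (M.res (hU q.2)).map_smulₛₗ } :
        M.carrier x →ₗ[X.ring x] M.carrier q.1) := hM x q.1 (hU q.2)
  let can := AlgebraTensorModule.cancelBaseChange (X.ring x) (X.sectRing U) (X.ring q.1) (X.ring q.1) (M.carrier x)
  have key : ∀ z, f (LinearMap.lTensor (X.ring q.1) Φ z) = hb.equiv (can z) := by
    intro z
    induction z using TensorProduct.induction_on with
    | zero => simp
    | add z z' hz hz' => simp only [map_add, hz, hz']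
    | tmul t y =>
      induction y using TensorProduct.induction_on with
      | zero => simp
      | add y y' hy hy' => simp only [TensorProduct.tmul_add, map_add, hy, hy']
      | tmul s m =>
        rw [LinearMap.lTensor_tmul, hΦ, hf, AlgebraTensorModule.cancelBaseChange_tmul, hb.equiv_tmul]
        show t • (s.1 q • M.res (hU q.2) m) = (s.1 q * t) • M.res (hU q.2) m
        rw [smul_smul, mul_comm]
  have hcomp : (f : _ → _) ∘ LinearMap.lTensor (X.ring q.1) Φ = hb.equiv ∘ can := funext key
  exact (Function.Bijective.of_comp_iff' hfb _).mp (hcomp ▸ hb.equiv.bijective.comp can.bijective)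

variable (U)

theorem bijective_evalAlgHom (A : Alg X) (hA : A.IsQcoh) (hUa : (X.restrict U).IsAffine) (q : U) :
    letI := evalAlg U q
    letI := (A.sectMap U).toAlgebra
    ∃ e : X.ring q.1 ⊗[X.sectRing U] A.total.sectRing U ≃ₐ[X.ring q.1] A.carrier q.1,
      ∀ t s, e (t ⊗ₜ s) = t • (show A.carrier q.1 from s.1 q) := by
  letI := evalAlg U q
  letI := (A.sectMap U).toAlgebra
  letI : Algebra (X.sectRing U) (A.carrier q.1) := Algebra.compHom (A.carrier q.1) (X.evalRing U q)
  haveI : IsScalarTower (X.sectRing U) (X.ring q.1) (A.carrier q.1) := IsScalarTower.of_algebraMap_eq fun _ => rfl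
  let ev : A.total.sectRing U →ₐ[X.sectRing U] A.carrier q.1 :=
    { A.total.evalRing U q with commutes' := fun _ => rfl }
  let e : X.ring q.1 ⊗[X.sectRing U] A.total.sectRing U →ₐ[X.ring q.1] A.carrier q.1 :=
    Algebra.TensorProduct.lift (Algebra.ofId (X.ring q.1) (A.carrier q.1)) ev fun _ _ => Commute.all _ _
  have he : ∀ t s, e (t ⊗ₜ s) = t • (show A.carrier q.1 from s.1 q) := fun t s => (Algebra.smul_def t _).symm
  letI : Module (X.sectRing U) (A.toMod.carrier q.1) := Module.compHom (A.toMod.carrier q.1) (X.evalRing U q)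
  haveI : IsScalarTower (X.sectRing U) (X.ring q.1) (A.toMod.carrier q.1) :=
    IsScalarTower.of_algebraMap_smul fun _ _ => rfl
  let ι : A.total.sectRing U ≃ₗ[X.sectRing U] A.toMod.sect U :=
    { toFun := fun s => ⟨s.1, s.2⟩
      invFun := fun s => ⟨s.1, s.2⟩
      map_add' := fun _ _ => rfl
      map_smul' := fun r s => Subtype.ext (funext fun p => (Algebra.smul_def (r.1 p) (show A.carrier p.1 from s.1 p)).symm)
      left_inv := fun _ => rfl
      right_inv := fun _ => rfl }
  let evm : A.toMod.sect U →ₗ[X.sectRing U] A.toMod.carrier q.1 :=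
    { toFun := fun s => s.1 q, map_add' := fun _ _ => rfl, map_smul' := fun _ _ => rfl }
  let f : X.ring q.1 ⊗[X.sectRing U] A.toMod.sect U →ₗ[X.sectRing U] A.toMod.carrier q.1 :=
    TensorProduct.lift ((LinearMap.lsmul (X.ring q.1) (A.toMod.carrier q.1)).restrictScalars₁₂ (X.sectRing U) (X.sectRing U)
      |>.compl₂ evm)
  have hfb : Function.Bijective f := counit_bijective hUa A.toMod hA q f fun _ _ => rfl
  refine ⟨AlgEquiv.ofBijective e ?_, he⟩
  have key : ∀ z, e z = f (LinearEquiv.lTensor (X.ring q.1) ι z) := by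
    intro z
    induction z using TensorProduct.induction_on with
    | zero => rw [map_zero, map_zero, map_zero]; rfl
    | tmul t s => rw [he]; rfl
    | add z z' hz hz' => rw [map_add, map_add, map_add, hz, hz']; rfl
  rw [show (e : _ → _) = f ∘ LinearEquiv.lTensor (X.ring q.1) ι from funext key]
  exact hfb.comp (LinearEquiv.bijective _)

end Affine

end Groth.L18.SchFin
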