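import Groth.Agent.L18.SchFin.Rel
import Mathlib.RingTheory.Flat.Equalizer
import Mathlib.LinearAlgebra.TensorProduct.Prod
import Mathlib.RingTheory.Finiteness.Prod
import Mathlib.CategoryTheory.Limits.Shapes.BinaryProducts
import Mathlib.CategoryTheory.Limits.Shapes.Pullback.HasPullback

/-!
The category of étale covers of a finite ringed poset.
-/

set_option autoImplicit false
universe u

open TensorProduct SchFin CategoryTheory CategoryTheory.Limits

namespace Groth.L18.SchFin

variable {X : RSpace.{u}}

section Qcoh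

/-- the algebra structure on the value at a larger point -/
@[reducible] def algAt (A : Alg X) {p q : X.pt} (h : p ≤ q) : Algebra (X.ring p) (A.carrier q) :=
  Algebra.compHom (A.carrier q) (X.res h)

/-- the base change map of an algebra along a restriction -/
noncomputable def bcMap (A : Alg X) {p q : X.pt} (h : p ≤ q) :
    letI := resAlg X h
    X.ring q ⊗[X.ring p] A.carrier p →ₐ[X.ring q] A.carrier q :=
  letI := resAlg X h
  letI := algAt A h
  haveI : IsScalarTower (X.ring p) (X.ring q) (A.carrier q) := IsScalarTower.of_algebraMap_eq fun _ => rfl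
  Algebra.TensorProduct.lift (Algebra.ofId (X.ring q) (A.carrier q))
    ({ A.res h with commutes' := A.res_algebraMap h } : A.carrier p →ₐ[X.ring p] A.carrier q)
    (fun _ _ => Commute.all _ _)

theorem bcMap_tmul (A : Alg X) {p q : X.pt} (h : p ≤ q) (s : X.ring q) (a : A.carrier p) :
    letI := resAlg X h
    bcMap A h (s ⊗ₜ a) = algebraMap (X.ring q) (A.carrier q) s * A.res h a :=
  rfl

theorem bcMap_bijective {A : Alg X} (hA : A.IsQcoh) {p q : X.pt} (h : p ≤ q) :
    letI := resAlg X h
    Function.Bijective (bcMap A h) := by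
  letI := resAlg X h
  letI : Module (X.ring p) (A.carrier q) := Module.compHom _ (X.res h)
  haveI : IsScalarTower (X.ring p) (X.ring q) (A.carrier q) :=
    IsScalarTower.of_algebraMap_smul fun _ _ => rfl
  have hb : IsBaseChange (X.ring q)
      ({ toFun := fun a => A.res h a, map_add' := map_add _,
         map_smul' := fun r a => by
           show A.res h (r • a) = X.res h r • A.res h a
           rw [Algebra.smul_def, map_mul, A.res_algebraMap, ← Algebra.smul_def] } :
        A.carrier p →ₗ[X.ring p] A.carrier q) := hA p q h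
  have e : ⇑(bcMap A h) = ⇑hb.equiv := funext fun z => by
    induction z using TensorProduct.induction_on with
    | zero => rw [map_zero, map_zero]
    | tmul s a => rw [hb.equiv_tmul, bcMap_tmul, Algebra.smul_def]; rfl
    | add z z' hz hz' => rw [map_add, map_add, hz, hz']
  rw [e]; exact hb.equiv.bijective

theorem isQcoh_of_bcMap {A : Alg X}
    (hA : ∀ {p q : X.pt} (h : p ≤ q), letI := resAlg X h; Function.Bijective (bcMap A h)) : A.IsQcoh := by
  intro p q h
  letI := resAlg X h
  letI : Module (X.ring p) (A.toMod.carrier q) := Module.compHom (A.toMod.carrier q) (X.res h)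
  haveI : IsScalarTower (X.ring p) (X.ring q) (A.toMod.carrier q) :=
    IsScalarTower.of_algebraMap_smul fun _ _ => rfl
  exact IsBaseChange.of_equiv (M := A.toMod.carrier p) (N := A.toMod.carrier q)
    (LinearEquiv.ofBijective (bcMap A h).toLinearMap (hA h)) fun a => by
      show bcMap A h (1 ⊗ₜ a) = A.res h a
      rw [bcMap_tmul, map_one, one_mul]

/-- base change of a morphism commutes with the base change maps -/
theorem bcMap_map {A B : Alg X} (f : A ⟶ B) {p q : X.pt} (h : p ≤ q) :
    letI := resAlg X h
    ∀ z, bcMap B h (Algebra.TensorProduct.map (AlgHom.id (X.ring q) (X.ring q)) (f.app p) z) =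
      f.app q (bcMap A h z) := by
  letI := resAlg X h
  intro z
  induction z using TensorProduct.induction_on with
  | zero => rw [map_zero, map_zero, map_zero, map_zero]
  | tmul s a =>
    rw [Algebra.TensorProduct.map_tmul, bcMap_tmul, bcMap_tmul, map_mul, AlgHom.commutes, f.compat]
    rfl
  | add z z' hz hz' => rw [map_add, map_add, map_add, map_add, hz, hz']

end Qcoh

theorem etale_at (A : FEt X) (p : X.pt) : Algebra.Etale (X.ring p) (A.obj.carrier p) := (A.property.2 p).2
theorem finite_at (A : FEt X) (p : X.pt) : Module.Finite (X.ring p) (A.obj.carrier p) := (A.property.2 p).1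

section Basic

variable (X)

/-- the rings themselves -/
noncomputable def strObj : FEt X :=
  ⟨Alg.str X, isQcoh_of_bcMap (fun {p q} h => by
    letI := resAlg X h
    let bcs : X.ring q ⊗[X.ring p] X.ring p → X.ring q := fun z => bcMap (Alg.str X) h z
    have h0 : bcs 0 = 0 := map_zero (bcMap (Alg.str X) h)
    have hadd : ∀ z z', bcs (z + z') = bcs z + bcs z' := map_add (bcMap (Alg.str X) h)
    have ht : ∀ s a, bcs (s ⊗ₜ a) = s * X.res h a := fun _ _ => rfl
    show Function.Bijective bcs
    refine ⟨Function.LeftInverse.injective (g := fun s => s ⊗ₜ[X.ring p] (1 : X.ring p))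
      (fun z => ?_), fun s => ⟨s ⊗ₜ (1 : X.ring p), by rw [ht, map_one, mul_one]⟩⟩
    show bcs z ⊗ₜ[X.ring p] (1 : X.ring p) = z
    induction z using TensorProduct.induction_on with
    | zero => rw [h0, TensorProduct.zero_tmul]
    | tmul s a =>
      rw [ht, show s * X.res h a = a • s from mul_comm _ _, TensorProduct.smul_tmul, smul_eq_mul, mul_one]
    | add z z' hz hz' => rw [hadd, TensorProduct.add_tmul, hz, hz']),
   fun p => ⟨inferInstanceAs (Module.Finite (X.ring p) (X.ring p)),
    inferInstanceAs (Algebra.Etale (X.ring p) (X.ring p))⟩⟩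

/-- the zero algebra -/
def zeroAlg : Alg X where
  carrier _ := PUnit
  res _ := RingHom.id PUnit
  res_algebraMap _ _ := rfl
  res_self _ _ := rfl
  res_comp _ _ _ := rfl

theorem zeroAlg_isEtCover : (zeroAlg X).IsEtCover := by
  haveI : ∀ p, Subsingleton ((zeroAlg X).carrier p) := fun _ => inferInstanceAs (Subsingleton PUnit)
  refine ⟨isQcoh_of_bcMap (fun {p q} h => ?_), fun p => ⟨inferInstance, etale_of_subsingleton⟩⟩
  letI := resAlg X h
  haveI : Subsingleton (X.ring q ⊗[X.ring p] (zeroAlg X).carrier p) :=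
    subsingleton_of_forall_eq 0 fun t => by
      induction t using TensorProduct.induction_on with
      | zero => rfl
      | tmul a b => rw [Subsingleton.elim b 0, tmul_zero]
      | add a b ha hb => rw [ha, hb, add_zero]
  exact ⟨fun a b _ => Subsingleton.elim a b, fun b => ⟨0, Subsingleton.elim _ _⟩⟩

/-- the structure map from the rings -/
def fromStr (A : Alg X) : Alg.str X ⟶ A :=
  { app := fun p => Algebra.ofId (X.ring p) (A.carrier p)
    compat := fun h b => A.res_algebraMap h b }

/-- the map to the zero algebra -/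
def toZero (A : Alg X) : A ⟶ zeroAlg X :=
  { app := fun p => { toFun := fun _ => PUnit.unit, map_one' := rfl, map_mul' := fun _ _ => rfl,
                      map_zero' := rfl, map_add' := fun _ _ => rfl, commutes' := fun _ => rfl }
    compat := fun _ _ => rfl }

theorem hasInitial : HasInitial (FEt X) :=
  haveI : ∀ A : FEt X, Unique (strObj X ⟶ A) := fun A =>
    { default := ObjectProperty.homMk (fromStr X A.obj)
      uniq := fun g => ObjectProperty.hom_ext _ (Alg.hom_ext _ _ fun p =>
        AlgHom.ext fun r => (g.hom.app p).commutes r) }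
  hasInitial_of_unique (strObj X)

theorem hasTerminal : HasTerminal (FEt X) :=
  haveI : ∀ A : FEt X, Unique (A ⟶ ⟨zeroAlg X, zeroAlg_isEtCover X⟩) := fun A =>
    { default := ObjectProperty.homMk (toZero X A.obj)
      uniq := fun g => ObjectProperty.hom_ext _ (Alg.hom_ext _ _ fun p =>
        AlgHom.ext fun _ => rfl) }
  hasTerminal_of_unique ⟨zeroAlg X, zeroAlg_isEtCover X⟩

end Basic

section Prod

variable (A B : Alg X)

/-- pointwise product -/
def prodAlg : Alg X where
  carrier p := A.carrier p × B.carrier p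
  res h := (A.res h).prodMap (B.res h)
  res_algebraMap h a := Prod.ext (A.res_algebraMap h a) (B.res_algebraMap h a)
  res_self p b := Prod.ext (A.res_self p b.1) (B.res_self p b.2)
  res_comp h h' b := Prod.ext (A.res_comp h h' b.1) (B.res_comp h h' b.2)

theorem prodAlg_isEtCover {A B : Alg X} (hA : A.IsEtCover) (hB : B.IsEtCover) :
    (prodAlg A B).IsEtCover := by
  refine ⟨isQcoh_of_bcMap (fun {p q} h => ?_), fun p => ?_⟩
  · letI := resAlg X h
    have e : ⇑(bcMap (prodAlg A B) h) = Prod.map (bcMap A h) (bcMap B h) ∘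
        ⇑(TensorProduct.prodRight (X.ring p) (X.ring q) (X.ring q) (A.carrier p) (B.carrier p)) :=
      funext fun z => by
        induction z using TensorProduct.induction_on with
        | zero =>
          refine (map_zero _).trans ?_
          show _ = Prod.map _ _ (TensorProduct.prodRight (X.ring p) (X.ring q) (X.ring q) (A.carrier p) (B.carrier p) 0)
          rw [LinearEquiv.map_zero]
          exact Prod.ext (map_zero (bcMap A h)).symm (map_zero (bcMap B h)).symm
        | tmul s a =>
          refine (bcMap_tmul (prodAlg A B) h s a).trans ?_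
          rfl
        | add z z' hz hz' =>
          refine (map_add _ _ _).trans ((congrArg₂ (· + ·) hz hz').trans ?_)
          refine Eq.trans ?_ (congrArg (Prod.map (bcMap A h) (bcMap B h))
            (LinearEquiv.map_add (TensorProduct.prodRight (X.ring p) (X.ring q) (X.ring q) (A.carrier p)
              (B.carrier p)) z z').symm)
          exact Prod.ext (map_add (bcMap A h) _ _).symm (map_add (bcMap B h) _ _).symm
    rw [e]
    exact ((bcMap_bijective hA.1 h).prodMap (bcMap_bijective hB.1 h)).comp (LinearEquiv.bijective _)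
  · haveI := (hA.2 p).1
    haveI := (hA.2 p).2
    haveI := (hB.2 p).1
    haveI := (hB.2 p).2
    exact ⟨(inferInstance : Module.Finite (X.ring p) (A.carrier p × B.carrier p)), etale_prod⟩

end Prod

/-- pointwise product of étale covers -/
def prodObj (A B : FEt X) : FEt X := ⟨prodAlg A.obj B.obj, prodAlg_isEtCover A.property B.property⟩

/-- first projection -/
def prodFst (A B : FEt X) : prodObj A B ⟶ A :=
  ObjectProperty.homMk
    ({ app := fun p => AlgHom.fst (X.ring p) (A.obj.carrier p) (B.obj.carrier p)
       compat := fun _ _ => rfl } : prodAlg A.obj B.obj ⟶ A.obj)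

/-- second projection -/
def prodSnd (A B : FEt X) : prodObj A B ⟶ B :=
  ObjectProperty.homMk
    ({ app := fun p => AlgHom.snd (X.ring p) (A.obj.carrier p) (B.obj.carrier p)
       compat := fun _ _ => rfl } : prodAlg A.obj B.obj ⟶ B.obj)

theorem hom_congr {A B : FEt X} {f g : A ⟶ B} (h : f = g) (p : X.pt) (a : A.obj.carrier p) :
    f.hom.app p a = g.hom.app p a := by rw [h]

theorem comp_app {A B C : FEt X} (f : A ⟶ B) (g : B ⟶ C) (p : X.pt) (a : A.obj.carrier p) :
    (f ≫ g).hom.app p a = g.hom.app p (f.hom.app p a) := rfl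

theorem fet_ext {A B : FEt X} {f g : A ⟶ B} (h : ∀ p a, f.hom.app p a = g.hom.app p a) : f = g :=
  ObjectProperty.hom_ext _ (Alg.hom_ext _ _ fun p => AlgHom.ext (h p))

/-- A fan which is a product at every point is a product. -/
noncomputable def isLimitBinaryFan {A B C : FEt X} (π₁ : C ⟶ A) (π₂ : C ⟶ B)
    (h : ∀ p, Function.Bijective fun c : C.obj.carrier p => (π₁.hom.app p c, π₂.hom.app p c)) :
    IsLimit (BinaryFan.mk π₁ π₂) :=
  let e : ∀ p, C.obj.carrier p ≃ₐ[X.ring p] A.obj.carrier p × B.obj.carrier p := fun p =>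
    AlgEquiv.ofBijective ((π₁.hom.app p).prod (π₂.hom.app p)) (h p)
  BinaryFan.IsLimit.mk _
    (fun {T} f g => ObjectProperty.homMk
      ({ app := fun p => (e p).symm.toAlgHom.comp ((f.hom.app p).prod (g.hom.app p))
         compat := fun {p q} hpq t => (e q).injective (by
          show e q (C.obj.res hpq ((e p).symm _)) = e q ((e q).symm _)
          rw [AlgEquiv.apply_symm_apply]
          have h1 := congrArg Prod.fst ((e p).apply_symm_apply (f.hom.app p t, g.hom.app p t))
          have h2 := congrArg Prod.snd ((e p).apply_symm_apply (f.hom.app p t, g.hom.app p t))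
          refine Prod.ext ?_ ?_
          · show π₁.hom.app q (C.obj.res hpq _) = f.hom.app q (T.obj.res hpq t)
            rw [← π₁.hom.compat, ← f.hom.compat]
            exact congrArg _ h1
          · show π₂.hom.app q (C.obj.res hpq _) = g.hom.app q (T.obj.res hpq t)
            rw [← π₂.hom.compat, ← g.hom.compat]
            exact congrArg _ h2) } : T.obj ⟶ C.obj))
    (fun {T} f g => fet_ext fun p t =>
      congrArg Prod.fst ((e p).apply_symm_apply (f.hom.app p t, g.hom.app p t)))
    (fun {T} f g => fet_ext fun p t =>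
      congrArg Prod.snd ((e p).apply_symm_apply (f.hom.app p t, g.hom.app p t)))
    (fun {T} f g m h₁ h₂ => fet_ext fun p t => (e p).injective (by
      show e p (m.hom.app p t) = e p ((e p).symm _)
      rw [AlgEquiv.apply_symm_apply]
      exact Prod.ext (hom_congr h₁ p t) (hom_congr h₂ p t)))

/-- the product cone -/
noncomputable def prodIsLimit (A B : FEt X) : IsLimit (BinaryFan.mk (prodFst A B) (prodSnd A B)) :=
  isLimitBinaryFan _ _ fun _ => Function.bijective_id

theorem hasBinaryProducts : HasBinaryProducts (FEt X) :=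
  haveI : ∀ A B : FEt X, HasLimit (pair A B) := fun A B => ⟨⟨⟨_, prodIsLimit A B⟩⟩⟩
  hasBinaryProducts_of_hasLimit_pair _

theorem mono_of_injective {A B : FEt X} (f : A ⟶ B) (hf : ∀ p, Function.Injective (f.hom.app p)) : Mono f :=
  ⟨fun g g' e => fet_ext fun p t => hf p (hom_congr e p t)⟩

theorem epi_of_surjective {A B : FEt X} (f : A ⟶ B) (hf : ∀ p, Function.Surjective (f.hom.app p)) : Epi f :=
  ⟨fun g g' e => fet_ext fun p b => by obtain ⟨a, rfl⟩ := hf p b; exact hom_congr e p a⟩

theorem isIso_of_bijective {A B : FEt X} (f : A ⟶ B) (hf : ∀ p, Function.Bijective (f.hom.app p)) :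
    IsIso f := by
  let e : ∀ p, A.obj.carrier p ≃ₐ[X.ring p] B.obj.carrier p := fun p => AlgEquiv.ofBijective _ (hf p)
  refine ⟨⟨ObjectProperty.homMk ({ app := fun p => (e p).symm.toAlgHom, compat := fun {p q} h b => ?_ } :
    B.obj ⟶ A.obj), fet_ext fun p a => (e p).symm_apply_apply a,
    fet_ext fun p b => (e p).apply_symm_apply b⟩⟩
  apply (e q).injective
  show f.hom.app q (A.obj.res h ((e p).symm b)) = e q ((e q).symm _)
  rw [← f.hom.compat, AlgEquiv.apply_symm_apply]
  exact congrArg _ ((e p).apply_symm_apply b)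

section Idempotent

/-- compatible idempotents -/
def IdemFam (A : Alg X) (e : ∀ p, A.carrier p) : Prop :=
  (∀ p, IsIdempotentElem (e p)) ∧ ∀ p q (h : p ≤ q), A.res h (e p) = e q

theorem IdemFam.one_sub {A : Alg X} {e : ∀ p, A.carrier p} (he : IdemFam A e) :
    IdemFam A fun p => 1 - e p :=
  ⟨fun p => (he.1 p).one_sub, fun p q h => by rw [map_sub, map_one, he.2]⟩

/-- the direct factor cut out by compatible idempotents -/
noncomputable def factorAlg (A : Alg X) (e : ∀ p, A.carrier p) (he : IdemFam A e) : Alg X where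
  carrier p := A.carrier p ⧸ Ideal.span {1 - e p}
  res {p q} h := Ideal.quotientMap _ (A.res h) (by
    rw [← Ideal.map_le_iff_le_comap, Ideal.map_span, Set.image_singleton, map_sub, map_one, he.2])
  res_algebraMap h a := congrArg (Ideal.Quotient.mk _) (A.res_algebraMap h a)
  res_self p b := by
    obtain ⟨b, rfl⟩ := Ideal.Quotient.mk_surjective b
    exact congrArg (Ideal.Quotient.mk _) (A.res_self p b)
  res_comp h h' b := by
    obtain ⟨b, rfl⟩ := Ideal.Quotient.mk_surjective b
    exact congrArg (Ideal.Quotient.mk _) (A.res_comp h h' b)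

/-- the projection to a direct factor -/
noncomputable def factorProj (A : Alg X) (e : ∀ p, A.carrier p) (he : IdemFam A e) : A ⟶ factorAlg A e he :=
  { app := fun p => Ideal.Quotient.mkₐ (X.ring p) (Ideal.span {1 - e p})
    compat := fun _ _ => rfl }

theorem factorProj_eq_zero_iff {A : Alg X} {e : ∀ p, A.carrier p} (he : IdemFam A e) {p : X.pt}
    {a : A.carrier p} : (factorProj A e he).app p a = 0 ↔ a * e p = 0 :=
  Ideal.Quotient.eq_zero_iff_mem.trans (mem_span_one_sub_iff (he.1 p))

theorem factorProj_surjective {A : Alg X} {e : ∀ p, A.carrier p} (he : IdemFam A e) (p : X.pt) :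
    Function.Surjective ((factorProj A e he).app p) :=
  Ideal.Quotient.mk_surjective

theorem factorAlg_isEtCover {A : Alg X} {e : ∀ p, A.carrier p} (he : IdemFam A e) (hA : A.IsEtCover) :
    (factorAlg A e he).IsEtCover := by
  refine ⟨isQcoh_of_bcMap (fun {p q} h => ?_), fun p => ?_⟩
  · letI := resAlg X h
    let π := factorProj A e he
    let m := Algebra.TensorProduct.map (AlgHom.id (X.ring q) (X.ring q)) (π.app p)
    have hm : Function.Surjective m := fun z => by
      induction z using TensorProduct.induction_on with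
      | zero => exact ⟨0, map_zero _⟩
      | tmul s a =>
        obtain ⟨a, rfl⟩ := factorProj_surjective he p a
        exact ⟨s ⊗ₜ a, Algebra.TensorProduct.map_tmul _ _ _ _⟩
      | add z z' hz hz' =>
        obtain ⟨w, rfl⟩ := hz; obtain ⟨w', rfl⟩ := hz'; exact ⟨w + w', map_add _ _ _⟩
    constructor
    · rw [injective_iff_map_eq_zero]
      intro z hz
      obtain ⟨w, rfl⟩ := hm z
      rw [bcMap_map π h, factorProj_eq_zero_iff] at hz
      have hw : w * (1 ⊗ₜ e p) = 0 := (bcMap_bijective hA.1 h).1 (by
        rw [map_mul, map_zero, bcMap_tmul, map_one, one_mul, he.2 p q h]; exact hz)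
      have := congrArg m hw
      rw [map_mul, map_zero, Algebra.TensorProduct.map_tmul, map_one] at this
      have h1 : π.app p (e p) = 1 := by
        refine (Ideal.Quotient.eq.mpr ?_).trans (map_one (Ideal.Quotient.mk _))
        exact Ideal.mem_span_singleton'.mpr ⟨-1, by ring⟩
      rw [h1] at this
      exact (mul_one _).symm.trans this
    · intro b
      obtain ⟨b, rfl⟩ := factorProj_surjective he q b
      obtain ⟨w, rfl⟩ := (bcMap_bijective hA.1 h).2 b
      exact ⟨m w, bcMap_map π h w⟩
  · haveI := (hA.2 p).1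
    haveI := (hA.2 p).2
    exact ⟨inferInstanceAs (Module.Finite (X.ring p) (A.carrier p ⧸ Ideal.span {1 - e p})),
      etale_quotient_one_sub (he.1 p)⟩

/-- the direct factor as an étale cover -/
noncomputable def factorObj (A : FEt X) {e : ∀ p, A.obj.carrier p} (he : IdemFam A.obj e) : FEt X :=
  ⟨factorAlg A.obj e he, factorAlg_isEtCover he A.property⟩

/-- projection to a direct factor -/
noncomputable def factorπ (A : FEt X) {e : ∀ p, A.obj.carrier p} (he : IdemFam A.obj e) :
    A ⟶ factorObj A he :=
  ObjectProperty.homMk (factorProj A.obj e he)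

variable (hX : X.IsSchematic)
include hX

theorem exists_ker_idemFam {A B : FEt X} (f : A ⟶ B) :
    ∃ e : ∀ p, A.obj.carrier p, IdemFam A.obj e ∧ ∀ p a, f.hom.app p a = 0 ↔ a * e p = 0 := by
  have hex : ∀ p, ∃ e : A.obj.carrier p, IsIdempotentElem e ∧ ∀ a, f.hom.app p a = 0 ↔ a * e = 0 :=
    fun p => by
      haveI := etale_at A p
      haveI := etale_at B p
      haveI := finite_at B p
      exact exists_idem_ker (f.hom.app p)
  choose e he hker using hex
  refine ⟨e, ⟨he, fun p q h => ?_⟩, hker⟩
  letI := resAlg X h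
  haveI := flat_res hX h
  have h1 : (1 - A.obj.res h (e p)) * e q = 0 := by
    rw [← hker, map_sub, map_one, ← f.hom.compat, ← map_one (B.obj.res h), ← map_sub,
      show (1 - f.hom.app p (e p)) = 0 by
        rw [← map_one (f.hom.app p), ← map_sub, hker, (he p).one_sub_mul_self], map_zero]
  have h2 : (1 - e q) * A.obj.res h (e p) = 0 := by
    obtain ⟨w, hw⟩ := (bcMap_bijective A.property.1 h).2 (1 - e q)
    have hw0 : Algebra.TensorProduct.map (AlgHom.id (X.ring q) (X.ring q)) (f.hom.app p) w = 0 :=
      (bcMap_bijective B.property.1 h).1 (by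
        rw [map_zero, bcMap_map f.hom h, hw, hker, (he q).one_sub_mul_self])
    have hmem : w ∈ LinearMap.range (AlgebraTensorModule.lTensor (X.ring q) (X.ring q)
        (LinearMap.ker (f.hom.app p).toLinearMap).subtype) := by
      rw [← Module.Flat.ker_lTensor_eq]
      exact hw0
    obtain ⟨v, rfl⟩ := hmem
    rw [← hw]
    clear hw hw0
    induction v using TensorProduct.induction_on with
    | zero => rw [map_zero, map_zero, zero_mul]
    | tmul s k =>
      show bcMap A.obj h (s ⊗ₜ (k : A.obj.carrier p)) * A.obj.res h (e p) = 0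
      rw [bcMap_tmul, mul_assoc, ← map_mul, (hker p _).mp k.2, map_zero, mul_zero]
    | add v v' hv hv' => rw [map_add, map_add, add_mul, hv, hv', add_zero]
  rw [sub_mul, one_mul, sub_eq_zero] at h1 h2
  rw [h2, mul_comm, ← h1]

theorem exists_factor {A B : FEt X} (f : A ⟶ B) :
    ∃ (Q : FEt X) (g : A ⟶ Q) (h : Q ⟶ B), g ≫ h = f ∧ (∀ p, Function.Surjective (g.hom.app p)) ∧
      ∀ p, Function.Injective (h.hom.app p) := by
  obtain ⟨e, he, hker⟩ := exists_ker_idemFam hX f
  have hle : ∀ p a, a ∈ Ideal.span {1 - e p} → f.hom.app p a = 0 := fun p a ha =>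
    (hker p a).mpr ((mem_span_one_sub_iff (he.1 p)).mp ha)
  refine ⟨factorObj A he, factorπ A he,
    ObjectProperty.homMk ({ app := fun p => Ideal.Quotient.liftₐ _ (f.hom.app p) (hle p),
                            compat := fun {p q} h b => ?_ } : factorAlg A.obj e he ⟶ B.obj),
    fet_ext fun p a => rfl, fun p => factorProj_surjective he p, fun p => ?_⟩
  · obtain ⟨b, rfl⟩ := factorProj_surjective he p b
    exact f.hom.compat h b
  · refine (injective_iff_map_eq_zero _).mpr fun z hz => ?_
    obtain ⟨z, rfl⟩ := factorProj_surjective he p z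
    exact (factorProj_eq_zero_iff he).mpr ((hker p z).mp hz)

theorem exists_complement {A B : FEt X} (f : A ⟶ B) :
    ∃ (D : FEt X) (π : A ⟶ D), (∀ p, Function.Surjective (π.hom.app p)) ∧
      (∀ p a, f.hom.app p a = 0 → π.hom.app p a = 0 → a = 0) ∧
      ∀ p, ∃ d, f.hom.app p d = 1 ∧ π.hom.app p d = 0 := by
  obtain ⟨e, he, hker⟩ := exists_ker_idemFam hX f
  refine ⟨factorObj A he.one_sub, factorπ A he.one_sub,
    fun p => factorProj_surjective he.one_sub p, fun p a h1 h2 => ?_, fun p => ⟨e p, ?_, ?_⟩⟩
  · have h1' := (hker p a).mp h1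
    have h2' : a * (1 - e p) = 0 := (factorProj_eq_zero_iff he.one_sub).mp h2
    rwa [mul_sub, mul_one, h1', sub_zero] at h2'
  · rw [← sub_eq_zero, ← map_one (f.hom.app p), ← map_sub, hker, sub_mul, one_mul,
      (he.1 p).eq, sub_self]
  · exact (factorProj_eq_zero_iff he.one_sub).mpr (by rw [mul_sub, mul_one, (he.1 p).eq, sub_self])

theorem exists_binaryFan_of_surjective {A B : FEt X} (f : A ⟶ B)
    (hf : ∀ p, Function.Surjective (f.hom.app p)) :
    ∃ (D : FEt X) (π : A ⟶ D), Nonempty (IsLimit (BinaryFan.mk f π)) := by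
  obtain ⟨D, π, hπ, hinj, hd⟩ := exists_complement hX f
  refine ⟨D, π, ⟨isLimitBinaryFan f π fun p => ⟨fun a a' haa => ?_, fun x => ?_⟩⟩⟩
  · refine sub_eq_zero.mp (hinj p _ ?_ ?_)
    · rw [map_sub, sub_eq_zero]; exact congrArg Prod.fst haa
    · rw [map_sub, sub_eq_zero]; exact congrArg Prod.snd haa
  · obtain ⟨a₁, h₁⟩ := hf p x.1
    obtain ⟨a₂, h₂⟩ := hπ p x.2
    obtain ⟨d, hd1, hd2⟩ := hd p
    refine ⟨a₁ * d + a₂ * (1 - d), Prod.ext ?_ ?_⟩
    · simp [h₁, hd1]
    · simp [h₂, hd2]

/-- monomorphisms are injective at every point -/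
theorem injective_of_mono {A B : FEt X} (f : A ⟶ B) [Mono f] (p : X.pt) :
    Function.Injective (f.hom.app p) := by
  obtain ⟨Q, g, h, rfl, hg, hh⟩ := exists_factor hX f
  obtain ⟨D, π, hπ, hinj, hd⟩ := exists_complement hX g
  have hbij : ∀ p, Function.Bijective fun a : A.obj.carrier p => (g.hom.app p a, π.hom.app p a) := by
    refine fun p => ⟨fun a a' haa => sub_eq_zero.mp (hinj p _ ?_ ?_), fun x => ?_⟩
    · rw [map_sub, sub_eq_zero]; exact congrArg Prod.fst haa
    · rw [map_sub, sub_eq_zero]; exact congrArg Prod.snd haa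
    · obtain ⟨a₁, h₁⟩ := hg p x.1
      obtain ⟨a₂, h₂⟩ := hπ p x.2
      obtain ⟨d, hd1, hd2⟩ := hd p
      refine ⟨a₁ * d + a₂ * (1 - d), Prod.ext ?_ ?_⟩
      · simp [h₁, hd1]
      · simp [h₂, hd2]
  let lim := isLimitBinaryFan g π hbij
  let u₁ : prodObj A D ⟶ A := prodFst A D
  let u₂ : prodObj A D ⟶ A :=
    lim.lift (BinaryFan.mk (prodFst A D ≫ g) (prodSnd A D))
  have hu1 : u₂ ≫ g = prodFst A D ≫ g := lim.fac _ ⟨WalkingPair.left⟩
  have hu2 : u₂ ≫ π = prodSnd A D := lim.fac _ ⟨WalkingPair.right⟩
  have heq : u₁ = u₂ := (cancel_mono (g ≫ h)).mp (by rw [reassoc_of% hu1])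
  have h01 : (0 : D.obj.carrier p) = 1 := by
    have := hom_congr hu2 p ((0 : A.obj.carrier p), (1 : D.obj.carrier p))
    rw [comp_app, ← hom_congr heq p] at this
    exact (map_zero (π.hom.app p)).symm.trans this
  refine fun a a' haa => sub_eq_zero.mp (hinj p _ ?_ ?_)
  · refine hh p ?_
    rw [map_sub, map_sub, map_zero, sub_eq_zero]
    exact haa
  · exact eq_zero_of_zero_eq_one h01 _

end Idempotent

end Groth.L18.SchFin
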