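import Groth.Agent.L18.SchFin.Pushout
import Mathlib.FieldTheory.IsAlgClosed.Basic
import Mathlib.CategoryTheory.Galois.Basic
import Mathlib.CategoryTheory.Limits.Types.Pullbacks
import Mathlib.CategoryTheory.Limits.Types.Coproducts
import Mathlib.CategoryTheory.Limits.Shapes.Opposites.Products
import Mathlib.CategoryTheory.Limits.Shapes.Opposites.Pullbacks
import Mathlib.CategoryTheory.Limits.Preserves.Shapes.BinaryProducts
import Mathlib.CategoryTheory.Limits.Preserves.Shapes.Terminal
import Mathlib.CategoryTheory.Limits.Constructions.FiniteProductsOfBinaryProducts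
import Mathlib.RingTheory.IntegralClosure.IsIntegralClosure.Basic

/-!
The fibre functor of a geometric point of a finite ringed poset.
-/

set_option autoImplicit false
universe u

open TensorProduct SchFin CategoryTheory CategoryTheory.Limits Opposite

namespace Groth.L18.SchFin

section Field

variable {Ω : Type u} [Field Ω] [IsAlgClosed Ω]

/-- a prime of a finite algebra over a ring mapping to an algebraically closed field gives a point -/
theorem exists_algHom_of_prime {T : Type u} [CommRing T] [Algebra Ω T] [Module.Finite Ω T]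
    (P : PrimeSpectrum T) : ∃ χ : T →ₐ[Ω] Ω, RingHom.ker χ.toRingHom = P.asIdeal := by
  let e := AlgEquiv.ofBijective (Algebra.ofId Ω (T ⧸ P.asIdeal))
    (IsAlgClosed.algebraMap_bijective_of_isIntegral (k := Ω) (K := T ⧸ P.asIdeal))
  refine ⟨e.symm.toAlgHom.comp (Ideal.Quotient.mkₐ Ω P.asIdeal), Ideal.ext fun t => ?_⟩
  show e.symm (Ideal.Quotient.mk _ t) = 0 ↔ _
  rw [map_eq_zero_iff e.symm e.symm.injective, Ideal.Quotient.eq_zero_iff_mem]

/-- extension of a point along a finite injective ring map -/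
theorem exists_extension {A B : Type u} [CommRing A] [CommRing B] (f : A →+* B) (hf : f.Finite)
    (hinj : Function.Injective f) (φ : A →+* Ω) : ∃ ψ : B →+* Ω, ψ.comp f = φ := by
  letI := f.toAlgebra
  letI := φ.toAlgebra
  haveI : Module.Finite A B := hf
  haveI : FaithfulSMul A B := (faithfulSMul_iff_algebraMap_injective A B).mpr hinj
  obtain ⟨Q, hQ⟩ := Algebra.IsIntegral.comap_surjective A B
    (PrimeSpectrum.comap φ ⟨⊥, Ideal.isPrime_bot⟩)
  obtain ⟨r, -, -⟩ := exists_prime_tensor (R := A) (A := Ω) (B := B) ⟨⊥, Ideal.isPrime_bot⟩ Q hQ.symm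
  obtain ⟨χ, -⟩ := exists_algHom_of_prime (Ω := Ω) r
  refine ⟨χ.toRingHom.comp Algebra.TensorProduct.includeRight.toRingHom, RingHom.ext fun a => ?_⟩
  show χ ((1 : Ω) ⊗ₜ[A] f a) = φ a
  rw [show (1 : Ω) ⊗ₜ[A] f a = φ a ⊗ₜ[A] (1 : B) from (Algebra.TensorProduct.tmul_one_eq_one_tmul (A := Ω) (B := B) a).symm]
  exact χ.commutes (φ a)

end Field

variable {X : RSpace.{u}} {Ω : Type u} [Field Ω] [IsAlgClosed Ω] (ξ : GeomPt X Ω)

/-- points of an algebra above a geometric point -/
def Pts (A : Alg X) : Type u :=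
  {φ : A.carrier ξ.base →+* Ω // ∀ r, φ (algebraMap _ _ r) = ξ.toField r}

theorem Pts.ext {A : Alg X} {φ ψ : Pts ξ A} (h : ∀ a, φ.1 a = ψ.1 a) : φ = ψ :=
  Subtype.ext (RingHom.ext h)

/-- functoriality of points -/
def Pts.comap {A B : Alg X} (f : A ⟶ B) (φ : Pts ξ B) : Pts ξ A :=
  ⟨φ.1.comp (f.app ξ.base).toRingHom, fun r => by
    show φ.1 (f.app ξ.base (algebraMap _ _ r)) = _
    rw [AlgHom.commutes, φ.2]⟩

/-- the extension of a point to the base change -/
noncomputable def Pts.hat {A : Alg X} (φ : Pts ξ A) :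
    letI := ξ.toField.toAlgebra
    Ω ⊗[X.ring ξ.base] A.carrier ξ.base →ₐ[Ω] Ω :=
  letI := ξ.toField.toAlgebra
  Algebra.TensorProduct.lift (AlgHom.id Ω Ω)
    ({ φ.1 with commutes' := φ.2 } : A.carrier ξ.base →ₐ[X.ring ξ.base] Ω) fun _ _ => Commute.all _ _

/-- the fibre point of a point -/
noncomputable def toFib {A : Alg X} (φ : Pts ξ A) : ξ.Fib A :=
  letI := ξ.toField.toAlgebra
  (⟨RingHom.ker (Pts.hat ξ φ).toRingHom, RingHom.ker_isPrime _⟩ :
    PrimeSpectrum (Ω ⊗[X.ring ξ.base] A.carrier ξ.base))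

theorem fibMap_toFib {A B : Alg X} (f : A ⟶ B) (φ : Pts ξ B) :
    ξ.fibMap f (toFib ξ φ) = toFib ξ (φ.comap ξ f) := by
  letI := ξ.toField.toAlgebra
  have e : (Pts.hat ξ φ).comp (Algebra.TensorProduct.map (AlgHom.id Ω Ω) (f.app ξ.base)) =
      Pts.hat ξ (φ.comap ξ f) := by
    refine Algebra.TensorProduct.ext' fun s a => ?_
    rfl
  refine PrimeSpectrum.ext (Ideal.ext fun z => ?_)
  show Pts.hat ξ φ (Algebra.TensorProduct.map (AlgHom.id Ω Ω) (f.app ξ.base) z) = 0 ↔
    Pts.hat ξ (φ.comap ξ f) z = 0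
  rw [← e]
  rfl

theorem toFib_bijective {A : Alg X} (hA : A.IsEtCover) : Function.Bijective (toFib ξ (A := A)) := by
  letI := ξ.toField.toAlgebra
  haveI := (hA.2 ξ.base).1
  refine ⟨fun φ ψ h => Pts.ext ξ fun a => ?_, fun P => ?_⟩
  · have hk : ∀ z, Pts.hat ξ φ z = 0 → Pts.hat ξ ψ z = 0 := fun z hz =>
      (SetLike.ext_iff.mp (congrArg PrimeSpectrum.asIdeal h) z).mp hz
    have h1 : ∀ (χ : Pts ξ A) (c : Ω), Pts.hat ξ χ ((1 : Ω) ⊗ₜ a - c ⊗ₜ 1) = χ.1 a - c := fun χ c => by
      rw [map_sub]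
      show 1 * χ.1 a - c * χ.1 1 = _
      rw [one_mul, map_one, mul_one]
    have h2 := hk _ ((h1 φ (φ.1 a)).trans (sub_self _))
    rw [h1] at h2
    exact (sub_eq_zero.mp h2).symm
  · obtain ⟨χ, hχ⟩ := exists_algHom_of_prime (Ω := Ω) (show PrimeSpectrum (Ω ⊗[X.ring ξ.base] A.carrier ξ.base) from P)
    let χ' := (χ.restrictScalars (X.ring ξ.base)).comp Algebra.TensorProduct.includeRight
    refine ⟨⟨χ'.toRingHom, fun r => χ'.commutes r⟩, ?_⟩
    refine PrimeSpectrum.ext ((congrArg RingHom.ker ?_).trans hχ)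
    refine congrArg AlgHom.toRingHom ?_
    refine Algebra.TensorProduct.ext' fun s a => ?_
    show s * χ ((1 : Ω) ⊗ₜ a) = χ (s ⊗ₜ a)
    rw [← smul_eq_mul, ← map_smul, TensorProduct.smul_tmul', smul_eq_mul, mul_one]

/-- points and fibre -/
noncomputable def fibEquiv (A : FEt X) : Pts ξ A.obj ≃ ξ.Fib A.obj :=
  Equiv.ofBijective _ (toFib_bijective ξ A.property)

theorem fibMap_fibEquiv {A B : FEt X} (f : A ⟶ B) (φ : Pts ξ B.obj) :
    ξ.fibMap f.hom (fibEquiv ξ B φ) = fibEquiv ξ A (φ.comap ξ f.hom) :=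
  fibMap_toFib ξ f.hom φ

theorem fibMap_injective_iff {A B : FEt X} (f : A ⟶ B) :
    Function.Injective (ξ.fibMap f.hom) ↔ Function.Injective (Pts.comap ξ f.hom) := by
  have e : ξ.fibMap f.hom ∘ fibEquiv ξ B = fibEquiv ξ A ∘ Pts.comap ξ f.hom :=
    funext (fibMap_fibEquiv ξ f)
  rw [← EquivLike.injective_comp (fibEquiv ξ B), e, EquivLike.comp_injective]

theorem fibMap_surjective_iff {A B : FEt X} (f : A ⟶ B) :
    Function.Surjective (ξ.fibMap f.hom) ↔ Function.Surjective (Pts.comap ξ f.hom) := by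
  have e : ξ.fibMap f.hom ∘ fibEquiv ξ B = fibEquiv ξ A ∘ Pts.comap ξ f.hom :=
    funext (fibMap_fibEquiv ξ f)
  rw [← EquivLike.surjective_comp (fibEquiv ξ B), e, EquivLike.comp_surjective]

theorem fibMap_bijective_iff {A B : FEt X} (f : A ⟶ B) :
    Function.Bijective (ξ.fibMap f.hom) ↔ Function.Bijective (Pts.comap ξ f.hom) :=
  and_congr (fibMap_injective_iff ξ f) (fibMap_surjective_iff ξ f)

/-- the fibre functor followed by the inclusion in types -/
noncomputable abbrev fibT : (FEt X)ᵒᵖ ⥤ Type u := ξ.fibFunctor ⋙ FintypeCat.incl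

theorem comap_surjective_of_injective {A B : FEt X} (f : A ⟶ B) (hf : ∀ p, Function.Injective (f.hom.app p)) :
    Function.Surjective (Pts.comap ξ f.hom) := by
  intro φ
  have hfin : (f.hom.app ξ.base).toRingHom.Finite := by
    letI := (f.hom.app ξ.base).toRingHom.toAlgebra
    haveI : IsScalarTower (X.ring ξ.base) (A.obj.carrier ξ.base) (B.obj.carrier ξ.base) :=
      IsScalarTower.of_algebraMap_eq fun r => ((f.hom.app ξ.base).commutes r).symm
    haveI := finite_at B ξ.base
    exact Module.Finite.of_restrictScalars_finite (X.ring ξ.base) _ _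
  obtain ⟨ψ, hψ⟩ := exists_extension _ hfin (hf ξ.base) φ.1
  refine ⟨⟨ψ, fun r => ?_⟩, Pts.ext ξ fun a => RingHom.congr_fun hψ a⟩
  rw [← φ.2 r, ← (f.hom.app ξ.base).commutes r]
  exact RingHom.congr_fun hψ _

theorem preservesEpimorphisms (hX : X.IsSchematic) : ξ.fibFunctor.PreservesEpimorphisms where
  preserves {A B} f hf := by
    haveI : Mono f.unop := inferInstance
    refine ConcreteCategory.epi_of_surjective _ ?_
    exact (fibMap_surjective_iff ξ f.unop).mpr
      (comap_surjective_of_injective ξ f.unop fun p => injective_of_mono hX f.unop p)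

/-- the point of the rings themselves -/
def strPt : Pts ξ (strObj X).obj := ⟨ξ.toField, fun _ => rfl⟩

theorem eq_strPt (φ : Pts ξ (strObj X).obj) : φ = strPt ξ := Pts.ext ξ fun a => φ.2 a

/-- the initial étale cover -/
noncomputable def strIsInitial : IsInitial (strObj X) :=
  haveI : ∀ A : FEt X, Unique (strObj X ⟶ A) := fun A =>
    { default := ObjectProperty.homMk (fromStr X A.obj)
      uniq := fun g => fet_ext fun p r => (g.hom.app p).commutes r }
  IsInitial.ofUnique _

theorem preservesTerminal : PreservesLimitsOfShape (Discrete PEmpty.{1}) ξ.fibFunctor := by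
  haveI : Unique (Pts ξ (strObj X).obj) := ⟨⟨strPt ξ⟩, eq_strPt ξ⟩
  haveI : Unique (ξ.Fib (strObj X).obj) := (fibEquiv ξ (strObj X)).symm.unique
  have hU : IsTerminal (ξ.fibFunctor.obj (op (strObj X))) :=
    IsTerminal.ofUniqueHom (fun Y => FintypeCat.homMk fun _ => (default : ξ.Fib (strObj X).obj))
      (fun Y m => FintypeCat.hom_ext _ _ fun y => Subsingleton.elim (α := ξ.Fib (strObj X).obj) _ _)
  haveI : PreservesLimit (Functor.empty.{0} (FEt X)ᵒᵖ) ξ.fibFunctor :=
    preservesLimit_of_preserves_limit_cone (terminalOpOfInitial (strIsInitial (X := X)))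
      ((isLimitMapConeEmptyConeEquiv ξ.fibFunctor _).symm hU)
  exact preservesLimitsOfShape_pempty_of_preservesTerminal _

theorem preservesPullbacks : PreservesLimitsOfShape WalkingCospan ξ.fibFunctor := by
  refine ⟨fun {K} => ?_⟩
  suffices h : PreservesLimit (cospan (K.map WalkingCospan.Hom.inl) (K.map WalkingCospan.Hom.inr)) ξ.fibFunctor from
    preservesLimit_of_iso_diagram _ (diagramIsoCospan K).symm
  generalize K.map WalkingCospan.Hom.inl = a, K.map WalkingCospan.Hom.inr = b
  let f := a.unop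
  let g := b.unop
  have sq : IsPushout f g (pushoutInl f g) (pushoutInr f g) :=
    IsPushout.of_isColimit (pushoutIsColimit f g)
  have hpb : IsPullback (pushoutInl f g).op (pushoutInr f g).op a b := sq.op.flip
  have hT : IsPullback ((fibT ξ).map (pushoutInl f g).op) ((fibT ξ).map (pushoutInr f g).op)
      ((fibT ξ).map a) ((fibT ξ).map b) := by
    rw [Types.isPullback_iff]
    refine ⟨by rw [← Functor.map_comp, ← Functor.map_comp, hpb.w], fun x y h => ?_, fun x y h => ?_⟩
    · obtain ⟨φ, rfl⟩ := (fibEquiv ξ (pushoutObj f g)).surjective x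
      obtain ⟨ψ, rfl⟩ := (fibEquiv ξ (pushoutObj f g)).surjective y
      have h1 : φ.comap ξ (tensorInl f.hom g.hom) = ψ.comap ξ (tensorInl f.hom g.hom) :=
        (fibEquiv ξ _).injective
          ((fibMap_fibEquiv ξ (pushoutInl f g) φ).symm.trans (h.1.trans (fibMap_fibEquiv ξ (pushoutInl f g) ψ)))
      have h2 : φ.comap ξ (tensorInr f.hom g.hom) = ψ.comap ξ (tensorInr f.hom g.hom) :=
        (fibEquiv ξ _).injective
          ((fibMap_fibEquiv ξ (pushoutInr f g) φ).symm.trans (h.2.trans (fibMap_fibEquiv ξ (pushoutInr f g) ψ)))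
      refine congrArg _ (Subtype.ext (tn_ext f.hom g.hom (fun c => ?_) (fun c => ?_)))
      · exact RingHom.congr_fun (congrArg Subtype.val h1) c
      · exact RingHom.congr_fun (congrArg Subtype.val h2) c
    · obtain ⟨φ, rfl⟩ := (fibEquiv ξ _).surjective x
      obtain ⟨ψ, rfl⟩ := (fibEquiv ξ _).surjective y
      have he : φ.comap ξ f.hom = ψ.comap ξ g.hom :=
        (fibEquiv ξ _).injective
          ((fibMap_fibEquiv ξ f φ).symm.trans (h.trans (fibMap_fibEquiv ξ g ψ)))
      let χ : Pts ξ (pushoutObj f g).obj := ⟨tnLift f.hom g.hom φ.1 ψ.1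
        (fun t => RingHom.congr_fun (congrArg Subtype.val he) t),
        fun r => (tnLift_inl f.hom g.hom _ _ _ _).trans (φ.2 r)⟩
      refine ⟨fibEquiv ξ _ χ, ?_, ?_⟩
      · exact (fibMap_fibEquiv ξ (pushoutInl f g) χ).trans
          (congrArg _ (Pts.ext ξ fun c => tnLift_inl f.hom g.hom φ.1 ψ.1 (fun t => RingHom.congr_fun (congrArg Subtype.val he) t) c))
      · exact (fibMap_fibEquiv ξ (pushoutInr f g) χ).trans
          (congrArg _ (Pts.ext ξ fun c => tnLift_inr f.hom g.hom φ.1 ψ.1 (fun t => RingHom.congr_fun (congrArg Subtype.val he) t) c))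
  have hF : IsPullback (ξ.fibFunctor.map (pushoutInl f g).op) (ξ.fibFunctor.map (pushoutInr f g).op)
      (ξ.fibFunctor.map a) (ξ.fibFunctor.map b) :=
    IsPullback.of_map_of_faithful FintypeCat.incl hT
  exact preservesLimit_of_preserves_limit_cone hpb.isLimit
    ((isLimitMapConePullbackConeEquiv ξ.fibFunctor hpb.w).symm hF.isLimit)

theorem prod_pts_cases {A B : FEt X} (φ : Pts ξ (prodObj A B).obj) :
    (∃ ψ, Pts.comap ξ (prodFst A B).hom ψ = φ) ∨ (∃ ψ, Pts.comap ξ (prodSnd A B).hom ψ = φ) := by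
  let a := A.obj.carrier ξ.base
  let b := B.obj.carrier ξ.base
  let F : a × b →+* Ω := φ.1
  have hidem : F (1, 0) = 0 ∨ F (1, 0) = 1 := by
    have : F (1, 0) * F (1, 0) = F (1, 0) := by rw [← map_mul]; simp
    exact IsIdempotentElem.iff_eq_zero_or_one.mp this
  have hsum : F (1, 0) + F (0, 1) = 1 := by
    rw [← map_add, show ((1, 0) + (0, 1) : a × b) = 1 by simp, map_one]
  rcases hidem with h0 | h1
  · let ψ0 : b →+* Ω :=
      { toFun := fun y => F (0, y)
        map_one' := by simpa [h0] using hsum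
        map_mul' := fun y y' => by rw [← map_mul]; simp
        map_zero' := by rw [show ((0 : a), (0 : b)) = 0 from rfl, map_zero]
        map_add' := fun y y' => by rw [← map_add]; simp }
    refine Or.inr ⟨⟨ψ0, fun r => ?_⟩, Pts.ext ξ fun t => ?_⟩
    · show F (0, algebraMap _ b r) = _
      have hr : F (algebraMap _ a r, algebraMap _ b r) = ξ.toField r := φ.2 r
      have hsplit : ((algebraMap _ a r, algebraMap _ b r) : a × b) =
          (1, 0) * (algebraMap _ a r, 0) + (0, algebraMap _ b r) := by simp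
      rw [hsplit, map_add, map_mul, h0, zero_mul, zero_add] at hr
      exact hr
    · have key : ∀ x : a × b, F (0, x.2) = F x := fun x => by
        conv_rhs => rw [show x = (1, 0) * (x.1, 0) + (0, x.2) by simp]
        rw [map_add, map_mul, h0, zero_mul, zero_add]
      exact key t
  · have h2 : F (0, 1) = 0 := by simpa [h1] using hsum
    let ψ0 : a →+* Ω :=
      { toFun := fun y => F (y, 0)
        map_one' := h1
        map_mul' := fun y y' => by rw [← map_mul]; simp
        map_zero' := by rw [show ((0 : a), (0 : b)) = 0 from rfl, map_zero]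
        map_add' := fun y y' => by rw [← map_add]; simp }
    refine Or.inl ⟨⟨ψ0, fun r => ?_⟩, Pts.ext ξ fun t => ?_⟩
    · show F (algebraMap _ a r, 0) = _
      have hr : F (algebraMap _ a r, algebraMap _ b r) = ξ.toField r := φ.2 r
      have hsplit : ((algebraMap _ a r, algebraMap _ b r) : a × b) =
          (algebraMap _ a r, 0) + (0, 1) * (0, algebraMap _ b r) := by simp
      rw [hsplit, map_add, map_mul, h2, zero_mul, add_zero] at hr
      exact hr
    · have key : ∀ x : a × b, F (x.1, 0) = F x := fun x => by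
        conv_rhs => rw [show x = (x.1, 0) + (0, 1) * (0, x.2) by simp]
        rw [map_add, map_mul, h2, zero_mul, add_zero]
      exact key t

theorem preservesBinaryCoproducts : PreservesColimitsOfShape (Discrete WalkingPair) ξ.fibFunctor := by
  refine ⟨fun {K} => ?_⟩
  suffices h : PreservesColimit (pair (K.obj ⟨.left⟩) (K.obj ⟨.right⟩)) ξ.fibFunctor from
    preservesColimit_of_iso_diagram _ (diagramIsoPair K).symm
  generalize K.obj ⟨.left⟩ = oA, K.obj ⟨.right⟩ = oB
  obtain ⟨A⟩ := oA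
  obtain ⟨B⟩ := oB
  let c : BinaryCofan (op A) (op B) := BinaryCofan.mk (prodFst A B).op (prodSnd A B).op
  have hc : IsColimit c := BinaryFan.IsLimit.op (prodIsLimit A B)
  have hT : Nonempty (IsColimit (BinaryCofan.mk ((fibT ξ).map (prodFst A B).op) ((fibT ξ).map (prodSnd A B).op))) := by
    rw [Types.binaryCofan_isColimit_iff]
    refine ⟨(fibMap_injective_iff ξ (prodFst A B)).mpr fun φ ψ h => Pts.ext ξ fun a => ?_,
      (fibMap_injective_iff ξ (prodSnd A B)).mpr fun φ ψ h => Pts.ext ξ fun a => ?_, ?_⟩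
    · exact RingHom.congr_fun (congrArg Subtype.val h) (a, 0)
    · exact RingHom.congr_fun (congrArg Subtype.val h) (0, a)
    refine ⟨Set.disjoint_left.mpr ?_, ?_⟩
    · rintro _ ⟨x, rfl⟩ ⟨y, hy⟩
      obtain ⟨φ, rfl⟩ := (fibEquiv ξ A).surjective x
      obtain ⟨ψ, rfl⟩ := (fibEquiv ξ B).surjective y
      have h : ψ.comap ξ (prodSnd A B).hom = φ.comap ξ (prodFst A B).hom := (fibEquiv ξ _).injective
        ((fibMap_fibEquiv ξ (prodSnd A B) ψ).symm.trans (hy.trans (fibMap_fibEquiv ξ (prodFst A B) φ)))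
      have h01 : ψ.1 0 = φ.1 1 := RingHom.congr_fun (congrArg Subtype.val h) (1, 0)
      exact zero_ne_one (α := Ω) (by rwa [map_zero, map_one] at h01)
    · rw [codisjoint_iff, eq_top_iff]
      intro x _
      obtain ⟨φ, rfl⟩ := (fibEquiv ξ (prodObj A B)).surjective x
      rcases prod_pts_cases ξ φ with ⟨ψ, rfl⟩ | ⟨ψ, rfl⟩
      · exact Or.inl ⟨_, fibMap_fibEquiv ξ (prodFst A B) ψ⟩
      · exact Or.inr ⟨_, fibMap_fibEquiv ξ (prodSnd A B) ψ⟩
  haveI : ReflectsColimit (pair (ξ.fibFunctor.obj (op A)) (ξ.fibFunctor.obj (op B))) FintypeCat.incl := inferInstance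
  exact preservesColimit_of_preserves_colimit_cocone hc
    ((isColimitMapCoconeBinaryCofanEquiv ξ.fibFunctor _ _).symm
      (isColimitOfReflectsOfMapIsColimit FintypeCat.incl _ _ hT.some))

theorem preservesInitial : PreservesColimitsOfShape (Discrete PEmpty.{1}) ξ.fibFunctor := by
  let Z : FEt X := ⟨zeroAlg X, zeroAlg_isEtCover X⟩
  haveI : ∀ A : FEt X, Unique (A ⟶ Z) := fun A =>
    { default := ObjectProperty.homMk (toZero X A.obj)
      uniq := fun g => fet_ext fun p _ => rfl }
  have hZ : IsInitial (op Z) := (IsTerminal.ofUnique Z).op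
  haveI hE : IsEmpty (ξ.Fib Z.obj) := ⟨fun x => by
    obtain ⟨φ, rfl⟩ := (fibEquiv ξ Z).surjective x
    haveI : Subsingleton (Z.obj.carrier ξ.base) := inferInstanceAs (Subsingleton PUnit)
    exact zero_ne_one (α := Ω) (by rw [← map_zero φ.1, ← map_one φ.1, Subsingleton.elim (0 : Z.obj.carrier ξ.base) 1])⟩
  have hU : IsInitial (ξ.fibFunctor.obj (op Z)) :=
    IsInitial.ofUniqueHom (fun Y => FintypeCat.homMk fun x => (hE.false x).elim)
      (fun Y m => FintypeCat.hom_ext _ _ fun x => (hE.false x).elim)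
  haveI : PreservesColimit (Functor.empty.{0} (FEt X)ᵒᵖ) ξ.fibFunctor :=
    preservesColimit_of_preserves_colimit_cocone hZ ((isColimitMapCoconeEmptyCoconeEquiv ξ.fibFunctor _).symm hU)
  exact preservesColimitsOfShape_pempty_of_preservesInitial _

theorem hasFiniteCoproducts_op : HasFiniteCoproducts (FEt X)ᵒᵖ := by
  haveI := hasTerminal X
  haveI := hasBinaryProducts (X := X)
  haveI : HasFiniteProducts (FEt X) := hasFiniteProducts_of_has_binary_and_terminal
  infer_instance

theorem preservesFiniteCoproducts : PreservesFiniteCoproducts ξ.fibFunctor := by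
  haveI := preservesBinaryCoproducts ξ
  haveI := preservesInitial ξ
  haveI := hasFiniteCoproducts_op (X := X)
  exact ⟨fun n => PreservesFiniteCoproducts.of_preserves_binary_and_initial _ (Fin n)⟩

end Groth.L18.SchFin
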