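import Groth.Agent.L18.SchFin.Rel

/-!
Geometric points of schematic finite spaces.
-/

set_option autoImplicit false
universe u

open TensorProduct SchFin

namespace Groth.L18.SchFin

theorem isBCAlong_of_subsingleton {R S : Type u} [CommRing R] [CommRing S] (g : R →+* S) {M N : Type u}
    [AddCommGroup M] [AddCommGroup N] [Module R M] [Module S N] (f : M →ₛₗ[g] N) [Subsingleton N]
    (hM : letI := g.toAlgebra; Subsingleton (S ⊗[R] M)) : IsBCAlong g f := by
  letI := g.toAlgebra
  letI : Module R N := Module.compHom N g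
  haveI : IsScalarTower R S N := IsScalarTower.of_algebraMap_smul fun _ _ => rfl
  haveI := hM
  exact IsBaseChange.of_equiv
    (LinearEquiv.ofBijective (0 : S ⊗[R] M →ₗ[S] N)
      ⟨fun _ _ _ => Subsingleton.elim _ _, fun n => ⟨0, Subsingleton.elim _ _⟩⟩)
    fun _ => Subsingleton.elim _ _

theorem isBCAlong_of_bijective_of_epi {R S : Type u} [CommRing R] [CommRing S] (g : R →+* S)
    {M N : Type u} [AddCommGroup M] [AddCommGroup N] [Module R M] [Module S N] (f : M →ₛₗ[g] N)
    (hepi : letI := g.toAlgebra; Algebra.IsEpi R S) (hf : Function.Bijective f) : IsBCAlong g f := by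
  letI := g.toAlgebra
  letI : Module R N := Module.compHom N g
  haveI : IsScalarTower R S N := IsScalarTower.of_algebraMap_smul fun _ _ => rfl
  haveI := hepi
  let fl : M →ₗ[R] N := { toFun := f, map_add' := f.map_add, map_smul' := f.map_smulₛₗ }
  exact IsBaseChange.of_equiv
    ((AlgebraTensorModule.congr (LinearEquiv.refl S S) (LinearEquiv.ofBijective fl hf)).trans
      (TensorProduct.lid' R S N)) (fun m => one_smul S (f m))

theorem subsingleton_H_of_isEmpty {X : RSpace.{u}} {U : Set X.pt} {R : Type u} [CommRing R]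
    (φ : Coef X U R) (M : OMod X) (n : ℕ) [IsEmpty (Chain U n)] : Subsingleton (H φ M n) := by
  haveI : Subsingleton (Cochain φ M n) := ⟨fun a b => funext fun σ => isEmptyElim σ⟩
  exact Function.Surjective.subsingleton
    (f := H.mk φ M n) (Submodule.mkQ_surjective _)

theorem subsingleton_tensor_of_no_prime {R A B : Type u} [CommRing R] [CommRing A] [CommRing B]
    [Algebra R A] [Algebra R B]
    (h : ∀ (P : PrimeSpectrum A) (Q : PrimeSpectrum B),
      PrimeSpectrum.comap (algebraMap R A) P ≠ PrimeSpectrum.comap (algebraMap R B) Q) :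
    Subsingleton (A ⊗[R] B) := by
  by_contra hn
  rw [not_subsingleton_iff_nontrivial] at hn
  obtain ⟨m, hm⟩ := Ideal.exists_maximal (A ⊗[R] B)
  let r : PrimeSpectrum (A ⊗[R] B) := ⟨m, hm.isPrime⟩
  refine h (PrimeSpectrum.comap (Algebra.TensorProduct.includeLeft (S := R)).toRingHom r)
    (PrimeSpectrum.comap Algebra.TensorProduct.includeRight.toRingHom r) ?_
  rw [← PrimeSpectrum.comap_comp_apply, ← PrimeSpectrum.comap_comp_apply]
  refine congrArg (fun t => PrimeSpectrum.comap t r) (RingHom.ext fun a => ?_)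
  exact Algebra.TensorProduct.tmul_one_eq_one_tmul a

section Point

variable {X : RSpace.{u}} {Ω : Type u} [Field Ω] (f : Hom (RSpace.point Ω) X)

theorem isEmpty_chain {U : Set (RSpace.point Ω).pt} {n : ℕ} (hn : 0 < n) : IsEmpty (Chain U n) :=
  ⟨fun σ => absurd (σ.injective (Subsingleton.elim (α := PUnit) _ _ |> Subtype.ext :
    σ 0 = σ (Fin.last n))) (by simp [Fin.ext_iff]; omega)⟩

theorem bijective_ev0_point {U : Set (RSpace.point Ω).pt} {R : Type u} [CommRing R]
    (φ : Coef (RSpace.point Ω) U R) (q : U) : Function.Bijective (ev0 φ (RSpace.point Ω).str q) := by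
  refine ⟨fun h h' e => ev0_ext fun q' => ?_, fun r => ?_⟩
  · obtain rfl : q' = q := Subtype.ext (Subsingleton.elim (α := PUnit) _ _)
    exact e
  · obtain ⟨h, hh⟩ := exists_ev0 (φ := φ) (M := (RSpace.point Ω).str) (fun _ => r) (fun _ _ _ => rfl)
    exact ⟨h, hh q⟩

theorem bijective_resH_point {U U' : Set (RSpace.point Ω).pt} {R R' : Type u} [CommRing R] [CommRing R']
    {φ : Coef (RSpace.point Ω) U R} {φ' : Coef (RSpace.point Ω) U' R'} (s : Coef.Sub φ φ') (q : U') :
    Function.Bijective (resH (RSpace.point Ω).str s 0) := by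
  refine (Function.Bijective.of_comp_iff' (bijective_ev0_point φ' q) _).mp ?_
  have e : ev0 φ' (RSpace.point Ω).str q ∘ resH (RSpace.point Ω).str s 0 =
      ev0 φ (RSpace.point Ω).str ⟨q.1, s.le q.2⟩ := funext fun m => ev0_resH s m q
  rw [e]
  exact bijective_ev0_point φ _

theorem isEmpty_chain_wedge {y : X.pt} (h : ¬ y ≤ f.fn PUnit.unit) :
    IsEmpty (Chain (f.wedge PUnit.unit y) 0) :=
  ⟨fun σ => h (σ 0).2.2⟩

/-- the ring map to the field from a point below -/
def toΩ {y : X.pt} (h : y ≤ f.fn PUnit.unit) : X.ring y →+* Ω :=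
  (f.app PUnit.unit).comp (X.res h)

theorem subsingleton_tensor_wedge_iff {y y' : X.pt} (hy : y ≤ y') (h : y ≤ f.fn PUnit.unit) :
    letI := resAlg X hy; letI := (toΩ f h).toAlgebra
    Subsingleton (X.ring y' ⊗[X.ring y]
      H (Coef.ofHom f y (f.wedge PUnit.unit y) (f.wedge_subset_pre _ y)) (RSpace.point Ω).str 0) ↔
      Subsingleton (X.ring y' ⊗[X.ring y] Ω) := by
  letI := resAlg X hy
  letI := (toΩ f h).toAlgebra
  let C := Coef.ofHom f y (f.wedge PUnit.unit y) (f.wedge_subset_pre _ y)
  let q : f.wedge PUnit.unit y := ⟨PUnit.unit, le_rfl, h⟩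
  let e : H C (RSpace.point Ω).str 0 →ₗ[X.ring y] Ω :=
    { toFun := ev0 C (RSpace.point Ω).str q
      map_add' := map_add _
      map_smul' := fun r m => (ev0 C (RSpace.point Ω).str q).map_smulₛₗ r m }
  exact (LinearEquiv.lTensor (X.ring y')
    (LinearEquiv.ofBijective e (bijective_ev0_point C q))).toEquiv.subsingleton_congr

theorem not_comap_eq_ker (hf : f.IsSchematic) {x' : X.pt} (hx : f.fn PUnit.unit < x')
    (P : Ideal (X.ring x')) [P.IsPrime] :
    P.comap (X.res hx.le) ≠ RingHom.ker (f.app PUnit.unit) := by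
  intro hP
  letI := resAlg X hx.le
  letI := (toΩ f (le_refl (f.fn PUnit.unit))).toAlgebra
  let y := f.fn PUnit.unit
  let C := Coef.ofHom f y (f.wedge PUnit.unit y) (f.wedge_subset_pre _ y)
  let C' := Coef.ofHom f x' (f.wedge PUnit.unit x') (f.wedge_subset_pre _ x')
  haveI := isEmpty_chain_wedge f hx.not_ge
  haveI : Subsingleton (H C' (RSpace.point Ω).str 0) := subsingleton_H_of_isEmpty _ _ _
  letI : Module (X.ring y) (H C' (RSpace.point Ω).str 0) := Module.compHom _ (X.res hx.le)
  haveI : IsScalarTower (X.ring y) (X.ring x') (H C' (RSpace.point Ω).str 0) :=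
    IsScalarTower.of_algebraMap_smul fun _ _ => rfl
  have hb : IsBaseChange (X.ring x')
      ({ toFun := resH _ (f.subTgt PUnit.unit hx.le) 0, map_add' := map_add _,
         map_smul' := (resH _ (f.subTgt PUnit.unit hx.le) 0).map_smulₛₗ } :
        H C (RSpace.point Ω).str 0 →ₗ[X.ring y] H C' (RSpace.point Ω).str 0) :=
    (hf.2.2 0 PUnit.unit PUnit.unit le_rfl y x' hx.le).2
  haveI : Subsingleton (X.ring x' ⊗[X.ring y] Ω) :=
    (subsingleton_tensor_wedge_iff f hx.le le_rfl).mp hb.equiv.toEquiv.subsingleton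
  obtain ⟨r, -, -⟩ := exists_prime_tensor (R := X.ring y) (A := X.ring x') (B := Ω) ⟨P, inferInstance⟩
    ⟨⊥, Ideal.isPrime_bot⟩ (PrimeSpectrum.ext (by
      show P.comap (X.res hx.le) = Ideal.comap ((f.app PUnit.unit).comp (X.res _)) ⊥
      rw [hP]
      ext t
      simp only [RingHom.mem_ker, Ideal.mem_comap, Ideal.mem_bot, RingHom.comp_apply, X.res_self]))
  exact r.2.ne_top (Ideal.ext fun t => by
    rw [Subsingleton.elim t 0]; simp)

/-- the prime of the base point cut out by a point with values in a field -/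
def kerPt : PrimeSpectrum (X.ring (f.fn PUnit.unit)) :=
  haveI : IsDomain ((RSpace.point Ω).ring PUnit.unit) := inferInstanceAs (IsDomain Ω)
  ⟨RingHom.ker (f.app PUnit.unit), RingHom.ker_isPrime _⟩

theorem isSchematic_of_maximal (hX : X.IsSchematic) (hff : HFF X)
    (hmax : ∀ b : X.Pair, X.PairRel
      ⟨f.fn PUnit.unit, kerPt f⟩ b →
        b.1 ≤ f.fn PUnit.unit) : f.IsSchematic := by
  refine ⟨⟨fun _ => inferInstanceAs (IsNoetherianRing Ω), fun _ _ _ => RingHom.Flat.id Ω⟩, hX.1, ?_⟩
  intro n x x' hx y y' hy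
  rcases Nat.eq_zero_or_pos n with rfl | hn
  swap
  · haveI := fun U => isEmpty_chain (Ω := Ω) (U := U) hn
    haveI := fun {U : Set (RSpace.point Ω).pt} {R : Type u} [CommRing R]
      (φ : Coef (RSpace.point Ω) U R) => subsingleton_H_of_isEmpty φ (RSpace.point Ω).str n
    constructor <;>
    · refine isBCAlong_of_subsingleton _ _ ?_
      exact subsingleton_of_forall_eq 0 fun t => by
        induction t using TensorProduct.induction_on with
        | zero => rfl
        | tmul a b => rw [Subsingleton.elim b 0, tmul_zero]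
        | add a b ha hb => rw [ha, hb, add_zero]
  cases x; cases x'
  by_cases h : y ≤ f.fn PUnit.unit
  swap
  · have h' : ¬ y' ≤ f.fn PUnit.unit := fun e => h (hy.trans e)
    haveI := isEmpty_chain_wedge f h
    haveI := isEmpty_chain_wedge f h'
    haveI := fun {z : X.pt} [IsEmpty (Chain (f.wedge PUnit.unit z) 0)] {R : Type u} [CommRing R]
      (φ : Coef (RSpace.point Ω) (f.wedge PUnit.unit z) R) =>
        subsingleton_H_of_isEmpty φ (RSpace.point Ω).str 0
    constructor <;>
    · refine isBCAlong_of_subsingleton _ _ ?_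
      exact subsingleton_of_forall_eq 0 fun t => by
        induction t using TensorProduct.induction_on with
        | zero => rfl
        | tmul a b => rw [Subsingleton.elim b 0, tmul_zero]
        | add a b ha hb => rw [ha, hb, add_zero]
  let q : f.wedge PUnit.unit y := ⟨PUnit.unit, le_rfl, h⟩
  refine ⟨isBCAlong_of_bijective_of_epi _ _
    (@Algebra.isEpi_of_surjective_algebraMap Ω Ω _ _ (RingHom.id Ω).toAlgebra fun t => ⟨t, rfl⟩)
    (bijective_resH_point _ q), ?_⟩
  by_cases h' : y' ≤ f.fn PUnit.unit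
  · exact isBCAlong_of_bijective_of_epi _ _ (isEpi_res hX hy)
      (bijective_resH_point _ ⟨PUnit.unit, le_rfl, h'⟩)
  · haveI := isEmpty_chain_wedge f h'
    haveI : Subsingleton (H (Coef.ofHom f y' (f.wedge PUnit.unit y') (f.wedge_subset_pre _ y'))
      (RSpace.point Ω).str 0) := subsingleton_H_of_isEmpty _ _ _
    refine isBCAlong_of_subsingleton _ _ ((subsingleton_tensor_wedge_iff f hy h).mpr ?_)
    letI := resAlg X hy
    letI := (toΩ f h).toAlgebra
    refine subsingleton_tensor_of_no_prime fun P Q hPQ => h' ?_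
    have hQ : PrimeSpectrum.comap (f.app PUnit.unit) Q = kerPt f := by
      refine PrimeSpectrum.ext ?_
      show Ideal.comap (f.app PUnit.unit) Q.asIdeal = _
      rw [(Ideal.eq_bot_or_top Q.asIdeal).resolve_right Q.2.ne_top]
      rfl
    have hrel := pairRel_of_comap_eq hX hff h hy (kerPt f) P
      ((congrArg (PrimeSpectrum.comap (X.res h)) hQ.symm).trans hPQ.symm)
    exact hmax ⟨y', P⟩ hrel

end Point

end Groth.L18.SchFin
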