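import Groth.Prelude.Def_SchFin2
import Groth.Agent.L18.SchFin.CommAlg

/-!
Degree zero of the standard complex of a finite ringed poset, and the resulting tensor identities of
a schematic finite space.
-/

set_option autoImplicit false
universe u

open TensorProduct SchFin

namespace Groth.L18.SchFin

section H0

variable {X : RSpace.{u}} {U : Set X.pt} {R : Type u} [CommRing R] {φ : Coef X U R} {M : OMod X}

/-- the chain with one point -/
def single (q : U) : Chain U 0 :=
  OrderEmbedding.ofStrictMono (fun _ => q) (Subsingleton.strictMono (α := Fin 1) _)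

theorem chain_eq_single (σ : Chain U 0) : σ = single (σ (Fin.last 0)) :=
  DFunLike.ext _ _ fun i => congrArg σ (Subsingleton.elim (α := Fin 1) _ _)

theorem res_cochain_congr (c : Cochain φ M 0) {σ τ : Chain U 0} (e : σ = τ) {t : X.pt}
    (h : (σ (Fin.last 0)).1 ≤ t) (h' : (τ (Fin.last 0)).1 ≤ t) :
    M.res h (c σ) = M.res h' (c τ) := by
  subst e; rfl

theorem cocycle_compat (c : cocycles φ M 0) {a b : U} (h : a.1 ≤ b.1) :
    M.res h (c.1 (single a)) = c.1 (single b) := by
  rcases eq_or_lt_of_le (show a ≤ b from h) with rfl | hlt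
  · exact M.res_self _ _
  let σ : Chain U 1 := OrderEmbedding.ofStrictMono ![a, b] (fun i j hij => by
    fin_cases i <;> fin_cases j <;> first | exact hlt | exact absurd hij (by decide))
  have h0 : diff φ M 0 c.1 σ = 0 := congrFun (show diff φ M 0 c.1 = 0 from c.2) σ
  change (∑ j : Fin 2, ((-1 : ℤ) ^ (j : ℕ)) • c.1.faceVal σ j) = 0 at h0
  simp only [Fin.sum_univ_two, Fin.val_zero, Fin.val_one, pow_zero, pow_one, one_smul, neg_smul,
    add_neg_eq_zero] at h0
  have e0 : σ.face 0 = single b := DFunLike.ext _ _ fun i => by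
    rw [Subsingleton.elim (α := Fin 1) i 0]; rfl
  have e1 : σ.face 1 = single a := DFunLike.ext _ _ fun i => by
    rw [Subsingleton.elim (α := Fin 1) i 0]; rfl
  unfold Cochain.faceVal at h0
  have hb : (σ (Fin.last 1)).1 = b.1 := rfl
  rw [res_cochain_congr c.1 e0 _ (le_of_eq hb.symm),
    res_cochain_congr c.1 e1 _ (h.trans (le_of_eq hb.symm))] at h0
  exact h0.symm.trans (M.res_self b.1 _)

variable (φ M) in
/-- the value of a degree zero class at a point -/
noncomputable def ev0 (q : U) : H φ M 0 →ₛₗ[φ.map q] M.carrier q.1 :=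
  Submodule.liftQ ((cobdry φ M 0).comap (cocycles φ M 0).subtype)
    ({ toFun := fun c => c.1 (single q)
       map_add' := fun _ _ => rfl
       map_smul' := fun _ _ => rfl } : cocycles φ M 0 →ₛₗ[φ.map q] M.carrier q.1)
    (fun c hc => by
      have h : c.1 = 0 := hc
      exact congrFun h (single q))

theorem ev0_mk (c : cocycles φ M 0) (q : U) : ev0 φ M q (H.mk φ M 0 c) = c.1 (single q) := rfl

theorem res_ev0 (h : H φ M 0) {a b : U} (hab : a.1 ≤ b.1) : M.res hab (ev0 φ M a h) = ev0 φ M b h := by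
  obtain ⟨c, rfl⟩ := Submodule.mkQ_surjective _ h
  exact cocycle_compat c hab

theorem ev0_ext {h h' : H φ M 0} (e : ∀ q, ev0 φ M q h = ev0 φ M q h') : h = h' := by
  obtain ⟨c, rfl⟩ := Submodule.mkQ_surjective _ h
  obtain ⟨c', rfl⟩ := Submodule.mkQ_surjective _ h'
  refine congrArg _ (Subtype.ext (funext fun σ => ?_))
  have hσ := chain_eq_single σ
  rw [hσ]
  exact e _

theorem exists_ev0 (s : (q : U) → M.carrier q.1)
    (hs : ∀ (a b : U) (h : a.1 ≤ b.1), M.res h (s a) = s b) :
    ∃ h : H φ M 0, ∀ q, ev0 φ M q h = s q := by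
  let c : Cochain φ M 0 := fun σ => s (σ (Fin.last 0))
  have hc : c ∈ cocycles φ M 0 := by
    refine funext fun σ => ?_
    change (∑ j : Fin 2, ((-1 : ℤ) ^ (j : ℕ)) • c.faceVal σ j) = 0
    simp only [Fin.sum_univ_two, Fin.val_zero, Fin.val_one, pow_zero, pow_one, one_smul, neg_smul,
      add_neg_eq_zero, Cochain.faceVal, c]
    rw [hs, hs]
  exact ⟨H.mk φ M 0 ⟨c, hc⟩, fun q => rfl⟩

theorem ev0_resH {U' : Set X.pt} {R' : Type u} [CommRing R'] {φ' : Coef X U' R'} (s : Coef.Sub φ φ')
    (h : H φ M 0) (q : U') : ev0 φ' M q (resH M s 0 h) = ev0 φ M ⟨q.1, s.le q.2⟩ h := by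
  obtain ⟨c, rfl⟩ := Submodule.mkQ_surjective _ h
  have e : (single q).incl s.le = single (⟨q.1, s.le q.2⟩ : U) := DFunLike.ext _ _ fun _ => rfl
  exact eq_of_heq (congr_arg_heq c.1 e)

end H0

section Schematic

variable (X : RSpace.{u})

/-- the algebra structure given by a restriction -/
@[reducible] def resAlg {x a : X.pt} (h : x ≤ a) : Algebra (X.ring x) (X.ring a) := (X.res h).toAlgebra

variable {X}

theorem res_res {p q s : X.pt} (h : p ≤ q) (h' : q ≤ s) (a : X.ring p) :
    X.res h' (X.res h a) = X.res (h.trans h') a := X.res_comp h h' a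

theorem resSect_comp {x a : X.pt} (hxa : x ≤ a) (U : Set X.pt) (hUa : U ⊆ X.up a) (r : X.ring x) :
    X.resSect a U hUa (X.res hxa r) = X.resSect x U (fun _ hq => hxa.trans (hUa hq)) r :=
  Subtype.ext (funext fun _ => X.res_comp _ _ r)

/-- In a schematic space the rings over the common part of two minimal open sets above a common
point are the tensor product. -/
theorem bijective_bc (hX : X.IsSchematic) {x a b : X.pt} (hxa : x ≤ a) (hxb : x ≤ b) :
    letI := resAlg X hxa; letI := resAlg X hxb
    ∀ (φ : X.ring a ⊗[X.ring x] X.ring b →+* X.sectRing (X.up a ∩ X.up b)),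
      (∀ s t, φ (s ⊗ₜ t) = X.resSect a _ Set.inter_subset_left s * X.resSect b _ Set.inter_subset_right t) →
      Function.Bijective φ := by
  intro φ hφ
  letI := resAlg X hxa
  letI iAb := resAlg X hxb
  let s := (Hom.id X).subSrc hxa b
  let C := Coef.ofLE x ((Hom.id X).wedge x b) ((Hom.id X).wedge_subset_up x b)
  let C' := Coef.ofLE a ((Hom.id X).wedge a b) ((Hom.id X).wedge_subset_up a b)
  let bW : ↥((Hom.id X).wedge x b) := ⟨b, hxb, le_rfl⟩
  let ψ : H C X.str 0 →ₗ[X.ring x] X.ring b :=
    { toFun := ev0 C X.str bW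
      map_add' := map_add _
      map_smul' := fun r h => (ev0 C X.str bW).map_smulₛₗ r h }
  have hψ : Function.Bijective ψ := by
    refine ⟨fun h h' e => ev0_ext fun q => ?_, fun r => ?_⟩
    · rw [← res_ev0 h (a := bW) (b := q) q.2.2, ← res_ev0 h' (a := bW) (b := q) q.2.2]
      exact congrArg _ e
    · obtain ⟨h, hh⟩ := exists_ev0 (φ := C) (M := X.str) (fun q => X.res q.2.2 r)
        (fun _ _ _ => X.res_comp _ _ r)
      exact ⟨h, (hh bW).trans (X.res_self b r)⟩
  letI : Module (X.ring x) (H C' X.str 0) := Module.compHom _ (X.res hxa)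
  haveI : IsScalarTower (X.ring x) (X.ring a) (H C' X.str 0) :=
    IsScalarTower.of_algebraMap_smul fun _ _ => rfl
  have hS : IsBaseChange (X.ring a)
      ({ toFun := resH X.str s 0, map_add' := map_add _, map_smul' := (resH X.str s 0).map_smulₛₗ } :
        H C X.str 0 →ₗ[X.ring x] H C' X.str 0) :=
    (hX.2.2 0 x a hxa b b le_rfl).1
  let ψ' : H C' X.str 0 → X.sectRing (X.up a ∩ X.up b) := fun h =>
    ⟨fun q => ev0 C' X.str q h, fun q q' hq => res_ev0 h hq⟩
  have hψ' : Function.Bijective ψ' := by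
    refine ⟨fun h h' e => ev0_ext fun q => congrFun (congrArg Subtype.val e) q, fun t => ?_⟩
    obtain ⟨h, hh⟩ := exists_ev0 (φ := C') (M := X.str) t.1 t.2
    exact ⟨h, Subtype.ext (funext hh)⟩
  let e := LinearEquiv.lTensor (X.ring a) (LinearEquiv.ofBijective ψ hψ)
  have key : ∀ z, φ (e z) = ψ' (hS.equiv z) := by
    intro z
    induction z using TensorProduct.induction_on with
    | zero =>
      rw [map_zero, map_zero, map_zero]
      exact Subtype.ext (funext fun q => (map_zero (ev0 C' X.str q)).symm)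
    | tmul t h =>
      rw [hS.equiv_tmul]
      show φ (t ⊗ₜ ψ h) = _
      rw [hφ]
      refine Subtype.ext (funext fun q => ?_)
      show X.res _ t * X.res _ (ev0 C X.str bW h) = ev0 C' X.str q (t • resH X.str s 0 h)
      rw [LinearMap.map_smulₛₗ, ev0_resH]
      exact congrArg₂ (· * ·) rfl (res_ev0 h (a := bW) (b := ⟨q.1, s.le q.2⟩) q.2.2)
    | add z z' hz hz' =>
      rw [map_add, map_add, map_add, hz, hz']
      exact Subtype.ext (funext fun q => (map_add (ev0 C' X.str q) _ _).symm)
  have hcomp : (φ : _ → _) ∘ e = ψ' ∘ hS.equiv := funext key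
  exact (Function.Bijective.of_comp_iff (φ : _ → _) e.bijective).mp
    (hcomp ▸ hψ'.comp hS.equiv.bijective)

variable (hX : X.IsSchematic)
include hX

theorem bcHom_exists {x a b : X.pt} (hxa : x ≤ a) (hxb : x ≤ b) :
    letI := resAlg X hxa; letI := resAlg X hxb
    ∃ φ : X.ring a ⊗[X.ring x] X.ring b ≃+* X.sectRing (X.up a ∩ X.up b),
      ∀ s t, φ (s ⊗ₜ t) =
        X.resSect a _ Set.inter_subset_left s * X.resSect b _ Set.inter_subset_right t := by
  letI := resAlg X hxa
  letI := resAlg X hxb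
  let U := X.up a ∩ X.up b
  letI : Algebra (X.ring x) (X.sectRing U) :=
    (X.resSect x U (fun _ h => hxa.trans h.1)).toAlgebra
  let f : X.ring a →ₐ[X.ring x] X.sectRing U :=
    { X.resSect a U Set.inter_subset_left with
      commutes' := fun r => Subtype.ext (funext fun _ => X.res_comp _ _ r) }
  let g : X.ring b →ₐ[X.ring x] X.sectRing U :=
    { X.resSect b U Set.inter_subset_right with
      commutes' := fun r => Subtype.ext (funext fun _ => X.res_comp _ _ r) }
  let φ : X.ring a ⊗[X.ring x] X.ring b →+* X.sectRing U :=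
    (Algebra.TensorProduct.productMap f g).toRingHom
  have hφ : ∀ s t, φ (s ⊗ₜ t) =
      X.resSect a _ Set.inter_subset_left s * X.resSect b _ Set.inter_subset_right t :=
    fun s t => Algebra.TensorProduct.productMap_apply_tmul _ _ s t
  exact ⟨RingEquiv.ofBijective φ (bijective_bc hX hxa hxb φ hφ), hφ⟩

/-- restrictions of a schematic space are epimorphisms -/
theorem isEpi_res {x a : X.pt} (h : x ≤ a) :
    letI := resAlg X h; Algebra.IsEpi (X.ring x) (X.ring a) := by
  letI := resAlg X h
  obtain ⟨φ, hφ⟩ := bcHom_exists hX h h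
  refine (Algebra.isEpi_iff_forall_one_tmul_eq _ _).mpr fun r => φ.injective ?_
  rw [hφ, hφ, map_one]
  exact (one_mul _).trans (mul_one _).symm

theorem ringHom_ext_res {x a : X.pt} (h : x ≤ a) {T : Type*} [CommRing T] {g₁ g₂ : X.ring a →+* T}
    (hg : g₁.comp (X.res h) = g₂.comp (X.res h)) : g₁ = g₂ := by
  letI := resAlg X h
  haveI := isEpi_res hX h
  letI : Algebra (X.ring x) T := (g₁.comp (X.res h)).toAlgebra
  let f₁ : X.ring a →ₐ[X.ring x] T := { g₁ with commutes' := fun _ => rfl }
  let f₂ : X.ring a →ₐ[X.ring x] T :=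
    { g₂ with commutes' := fun r => (RingHom.congr_fun hg r).symm }
  ext r
  have := congrArg (Algebra.TensorProduct.productMap f₁ f₂)
    ((Algebra.isEpi_iff_forall_one_tmul_eq (X.ring x) (X.ring a)).mp inferInstance r)
  rw [Algebra.TensorProduct.productMap_apply_tmul, Algebra.TensorProduct.productMap_apply_tmul,
    map_one, map_one, one_mul, mul_one] at this
  exact this.symm

/-- two pairs with the same contraction are the contractions of a prime of the sections over the
common part -/
theorem exists_prime_sect {x a b : X.pt} (hxa : x ≤ a) (hxb : x ≤ b) (P : PrimeSpectrum (X.ring a))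
    (Q : PrimeSpectrum (X.ring b))
    (h : PrimeSpectrum.comap (X.res hxa) P = PrimeSpectrum.comap (X.res hxb) Q) :
    ∃ r : PrimeSpectrum (X.sectRing (X.up a ∩ X.up b)),
      PrimeSpectrum.comap (X.resSect a _ Set.inter_subset_left) r = P ∧
        PrimeSpectrum.comap (X.resSect b _ Set.inter_subset_right) r = Q := by
  letI := resAlg X hxa
  letI := resAlg X hxb
  obtain ⟨φ, hφ⟩ := bcHom_exists hX hxa hxb
  obtain ⟨r, hrP, hrQ⟩ := exists_prime_tensor P Q h
  refine ⟨PrimeSpectrum.comap φ.symm.toRingHom r, ?_, ?_⟩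
  · rw [← hrP, ← PrimeSpectrum.comap_comp_apply]
    congr 2
    ext s
    show φ.symm (X.resSect a _ Set.inter_subset_left s) = s ⊗ₜ 1
    rw [RingEquiv.symm_apply_eq, hφ, map_one, mul_one]
  · rw [← hrQ, ← PrimeSpectrum.comap_comp_apply]
    congr 2
    ext s
    show φ.symm (X.resSect b _ Set.inter_subset_right s) = 1 ⊗ₜ s
    rw [RingEquiv.symm_apply_eq, hφ, map_one, one_mul]

theorem nonempty_inter {x a b : X.pt} (hxa : x ≤ a) (hxb : x ≤ b) (P : PrimeSpectrum (X.ring a))
    (Q : PrimeSpectrum (X.ring b))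
    (h : PrimeSpectrum.comap (X.res hxa) P = PrimeSpectrum.comap (X.res hxb) Q) :
    (X.up a ∩ X.up b).Nonempty := by
  obtain ⟨r, -, -⟩ := exists_prime_sect hX hxa hxb P Q h
  by_contra he
  haveI : IsEmpty ↥(X.up a ∩ X.up b) :=
    Set.isEmpty_coe_sort.mpr (Set.not_nonempty_iff_eq_empty.mp he)
  exact r.2.ne_top ((Ideal.eq_top_iff_one _).mpr (by
    rw [show (1 : X.sectRing (X.up a ∩ X.up b)) = 0 from Subtype.ext (funext fun q => isEmptyElim q)]
    exact r.asIdeal.zero_mem))

end Schematic

end Groth.L18.SchFin
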