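import Groth.Agent.L18.SchFin.Fib
import Mathlib.RingTheory.Spectrum.Prime.FreeLocus
import Mathlib.RingTheory.LocalRing.Module

/-!
Isomorphisms of étale covers: the fibre functor reflects them, and the criterion by ranks.
-/

set_option autoImplicit false
universe u

open TensorProduct SchFin CategoryTheory CategoryTheory.Limits Opposite

namespace Groth.L18.SchFin

theorem faithfullyFlat_of_injective {A B : Type u} [CommRing A] [CommRing B] [Algebra A B] [Module.Flat A B]
    [Module.Finite A B] (hinj : Function.Injective (algebraMap A B)) : Module.FaithfullyFlat A B := by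
  haveI : FaithfulSMul A B := (faithfulSMul_iff_algebraMap_injective A B).mpr hinj
  exact Module.FaithfullyFlat.of_comap_surjective (Algebra.IsIntegral.comap_surjective A B)

theorem bijective_of_injective_of_rank {R A B : Type u} [CommRing R] [CommRing A] [CommRing B] [Algebra R A]
    [Algebra R B] [Algebra.Etale R A] [Algebra.Etale R B] [Module.Finite R A] [Module.Finite R B]
    (f : A →ₐ[R] B) (hf : Function.Injective f)
    (hr : ∀ P : PrimeSpectrum R, Module.rankAtStalk A P = Module.rankAtStalk B P) : Function.Bijective f := by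
  letI := f.toRingHom.toAlgebra
  haveI : IsScalarTower R A B := IsScalarTower.of_algebraMap_eq fun r => (f.commutes r).symm
  obtain ⟨_, _⟩ := projective_of_algHom f
  haveI : Module.FaithfullyFlat A B := faithfullyFlat_of_injective (A := A) (B := B) hf
  refine ⟨hf, ?_⟩
  let C := B ⧸ LinearMap.range f.toLinearMap
  suffices h : Subsingleton C from
    LinearMap.range_eq_top.mp (Submodule.Quotient.subsingleton_iff.mp h)
  rw [← Module.support_eq_empty_iff (R := R), Set.eq_empty_iff_forall_notMem]
  intro P
  rw [Module.mem_support_iff_nontrivial_residueField_tensorProduct, not_nontrivial_iff_subsingleton]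
  let κ := P.asIdeal.ResidueField
  let g : κ ⊗[R] A →ₗ[κ] κ ⊗[R] B := AlgebraTensorModule.lTensor κ κ f.toLinearMap
  have hg : Function.Injective g := by
    let N := A ⊗[R] κ
    have h1 : Function.Injective (TensorProduct.mk A B N 1) :=
      Module.FaithfullyFlat.tensorProduct_mk_injective N
    let e : B ⊗[A] N ≃ₗ[A] B ⊗[R] κ := AlgebraTensorModule.cancelBaseChange R A A B κ
    have h2 : ∀ z, g z = TensorProduct.comm R B κ (e (TensorProduct.mk A B N 1 (TensorProduct.comm R κ A z))) := by
      intro z
      induction z using TensorProduct.induction_on with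
      | zero => simp
      | tmul k a =>
        show k ⊗ₜ[R] f a = TensorProduct.comm R B κ ((a • (1 : B)) ⊗ₜ[R] k)
        rw [Algebra.smul_def, mul_one]
        rfl
      | add z z' hz hz' => simp only [map_add, hz, hz']
    intro z z' hzz
    rw [h2, h2] at hzz
    exact (TensorProduct.comm R κ A).injective (h1 (e.injective ((TensorProduct.comm R B κ).injective hzz)))
  haveI : Algebra.Etale A B := Algebra.Etale.of_restrictScalars R A B
  have hdim : Module.finrank κ (κ ⊗[R] A) = Module.finrank κ (κ ⊗[R] B) := by
    have h1 := Module.rankAtStalk_eq (M := A) P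
    have h2 := Module.rankAtStalk_eq (M := B) P
    exact (h1.symm.trans (hr P)).trans h2
  have hgs : Function.Surjective g := (LinearMap.injective_iff_surjective_of_finrank_eq_finrank hdim).mp hg
  refine subsingleton_of_forall_eq 0 fun z => ?_
  induction z using TensorProduct.induction_on with
  | zero => rfl
  | tmul k c =>
    obtain ⟨b, rfl⟩ := Submodule.mkQ_surjective _ c
    obtain ⟨w, hw⟩ := hgs (k ⊗ₜ b)
    have h0 : LinearMap.lTensor κ (LinearMap.range f.toLinearMap).mkQ (g w) = 0 := by
      clear hw
      induction w using TensorProduct.induction_on with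
      | zero => simp
      | tmul k a =>
        show k ⊗ₜ[R] (LinearMap.range f.toLinearMap).mkQ (f.toLinearMap a) = 0
        rw [show (LinearMap.range f.toLinearMap).mkQ (f.toLinearMap a) = 0 from
          (Submodule.Quotient.mk_eq_zero _).mpr (LinearMap.mem_range.mpr ⟨a, rfl⟩), TensorProduct.tmul_zero]
      | add z z' hz hz' => rw [map_add, map_add, hz, hz', add_zero]
    rw [hw] at h0
    exact h0
  | add z z' hz hz' => rw [hz, hz', add_zero]

variable {X : RSpace.{u}}

theorem subsingleton_or_injective (hwc : X.IsWellConnected) (D : FEt X) (p : X.pt) :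
    Subsingleton (D.obj.carrier p) ∨ Function.Injective (algebraMap (X.ring p) (D.obj.carrier p)) := by
  haveI : ConnectedSpace (PrimeSpectrum (X.ring p)) := hwc.2 p
  haveI := etale_at D p
  haveI := finite_at D p
  haveI : Module.FinitePresentation (X.ring p) (D.obj.carrier p) :=
    Module.FinitePresentation.of_finite_of_finitePresentation _ _
  haveI : Module.Projective (X.ring p) (D.obj.carrier p) := Module.Flat.projective_of_finitePresentation
  obtain ⟨e, he, h⟩ := exists_idem_annihilator (R := X.ring p) (D.obj.carrier p)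
  rcases eq_zero_or_one_of_connected he with rfl | rfl
  · refine Or.inl (subsingleton_of_forall_eq 0 fun m => ?_)
    have := (h 1).mpr (mul_zero 1) m
    rwa [one_smul] at this
  · refine Or.inr ((injective_iff_map_eq_zero _).mpr fun a ha => ?_)
    have := (h a).mp fun m => by rw [Algebra.smul_def, ha, zero_mul]
    rwa [mul_one] at this

theorem subsingleton_iff (hX : X.IsSchematic) (hwc : X.IsWellConnected) (D : FEt X) (a b : X.pt) :
    Subsingleton (D.obj.carrier a) ↔ Subsingleton (D.obj.carrier b) := by
  refine iff_of_topConnected ((connected_iff hX).mp hwc).1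
    (S := fun p => Subsingleton (D.obj.carrier p)) (fun p q hpq => ⟨fun hp => ?_, fun hq => ?_⟩) a b
  · exact subsingleton_of_zero_eq_one (by rw [← map_one (D.obj.res hpq), Subsingleton.elim (1 : D.obj.carrier p) 0, map_zero])
  · refine (subsingleton_or_injective hwc D p).resolve_right fun hi => ?_
    letI := resAlg X hpq
    haveI := flat_res hX hpq
    haveI : ConnectedSpace (PrimeSpectrum (X.ring q)) := hwc.2 q
    haveI := nontrivial_of_connected (R := X.ring q)
    have h1 := Module.Flat.lTensor_preserves_injective_linearMap (M := X.ring q)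
      (Algebra.linearMap (X.ring p) (D.obj.carrier p)) hi
    haveI : Subsingleton (X.ring q ⊗[X.ring p] D.obj.carrier p) :=
      (bcMap_bijective D.property.1 hpq).1.subsingleton
    haveI : Subsingleton (X.ring q ⊗[X.ring p] X.ring p) := h1.subsingleton
    exact not_subsingleton (X.ring q) (TensorProduct.rid (X.ring p) (X.ring q)).toEquiv.symm.subsingleton

variable {Ω : Type u} [Field Ω] [IsAlgClosed Ω] (ξ : GeomPt X Ω)

theorem subsingleton_of_isEmpty_pts (hX : X.IsSchematic) (hwc : X.IsWellConnected) (D : FEt X)
    [IsEmpty (Pts ξ D.obj)] (p : X.pt) : Subsingleton (D.obj.carrier p) := by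
  refine (subsingleton_iff hX hwc D ξ.base p).mp ((subsingleton_or_injective hwc D ξ.base).resolve_right fun hi => ?_)
  haveI := finite_at D ξ.base
  obtain ⟨ψ, hψ⟩ := exists_extension (algebraMap (X.ring ξ.base) (D.obj.carrier ξ.base))
    (RingHom.finite_algebraMap.mpr inferInstance) hi ξ.toField
  exact IsEmpty.false (α := Pts ξ D.obj) ⟨ψ, fun r => RingHom.congr_fun hψ r⟩

theorem injective_of_comap_surjective (hX : X.IsSchematic) (hwc : X.IsWellConnected) {A B : FEt X}
    (f : A ⟶ B) (h : Function.Surjective (Pts.comap ξ f.hom)) (p : X.pt) :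
    Function.Injective (f.hom.app p) := by
  obtain ⟨D, π, -, hinj, hd⟩ := exists_complement hX f
  haveI : IsEmpty (Pts ξ D.obj) := ⟨fun ψ => by
    obtain ⟨ψ', hψ'⟩ := h (ψ.comap ξ π.hom)
    obtain ⟨d, hd1, hd2⟩ := hd ξ.base
    have h1 : ψ'.1 (f.hom.app ξ.base d) = ψ.1 (π.hom.app ξ.base d) :=
      RingHom.congr_fun (congrArg Subtype.val hψ') d
    rw [hd1, hd2, map_one, map_zero] at h1
    exact one_ne_zero h1⟩
  haveI := subsingleton_of_isEmpty_pts ξ hX hwc D p
  refine (injective_iff_map_eq_zero _).mpr fun a ha => hinj p a ha (Subsingleton.elim _ _)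

theorem bijective_of_comap_bijective (hX : X.IsSchematic) (hwc : X.IsWellConnected) {A B : FEt X}
    (f : A ⟶ B) (h : Function.Bijective (Pts.comap ξ f.hom)) (p : X.pt) :
    Function.Bijective (f.hom.app p) := by
  have hf := injective_of_comap_surjective ξ hX hwc f h.2
  let nb : pushoutObj f f ⟶ B := pushoutDesc f f (𝟙 B) (𝟙 B) rfl
  have hl : ∀ q b, nb.hom.app q (tnInl f.hom f.hom q b) = b := fun q b =>
    descApp_inl f f (𝟙 B) (𝟙 B) rfl q b
  have hr : ∀ q b, nb.hom.app q (tnInr f.hom f.hom q b) = b := fun q b =>
    descApp_inr f f (𝟙 B) (𝟙 B) rfl q b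
  have hnb : Function.Surjective (Pts.comap ξ nb.hom) := fun χ => by
    have he : χ.comap ξ (tensorInl f.hom f.hom) = χ.comap ξ (tensorInr f.hom f.hom) :=
      h.1 (Pts.ext ξ fun a => congrArg χ.1 (tn_glue f.hom f.hom ξ.base a))
    refine ⟨χ.comap ξ (tensorInl f.hom f.hom), Subtype.ext (tn_ext f.hom f.hom (fun b => ?_) (fun b => ?_))⟩
    · exact congrArg (fun t => χ.1 (tnInl f.hom f.hom ξ.base t)) (hl ξ.base b)
    · refine (congrArg (fun t => χ.1 (tnInl f.hom f.hom ξ.base t)) (hr ξ.base b)).trans ?_
      exact RingHom.congr_fun (congrArg Subtype.val he) b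
  have hni := injective_of_comap_surjective ξ hX hwc nb hnb p
  haveI := etale_at A p
  haveI := etale_at B p
  haveI := finite_at B p
  letI := (f.hom.app p).toRingHom.toAlgebra
  obtain ⟨_, _⟩ := projective_of_algHom (f.hom.app p)
  haveI : Module.FaithfullyFlat (A.obj.carrier p) (B.obj.carrier p) := faithfullyFlat_of_injective (hf p)
  haveI : Algebra.IsEpi (A.obj.carrier p) (B.obj.carrier p) :=
    (Algebra.isEpi_iff_forall_one_tmul_eq _ _).mpr fun b =>
      (hni ((hl p b).trans (hr p b).symm)).symm
  exact bijective_of_faithfullyFlat_of_isEpi (A := A.obj.carrier p) (B := B.obj.carrier p)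

theorem reflectsIsomorphisms (hX : X.IsSchematic) (hwc : X.IsWellConnected) :
    ξ.fibFunctor.ReflectsIsomorphisms where
  reflects {A B} f hf := by
    have hb : Function.Bijective (Pts.comap ξ f.unop.hom) := by
      rw [← fibMap_bijective_iff]
      haveI : IsIso ((fibT ξ).map f) := inferInstanceAs (IsIso (FintypeCat.incl.map (ξ.fibFunctor.map f)))
      exact (ConcreteCategory.isIso_iff_bijective ((fibT ξ).map f)).mp inferInstance
    haveI := isIso_of_bijective f.unop (bijective_of_comap_bijective ξ hX hwc f.unop hb)
    exact (isIso_unop_iff f).mp inferInstance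

end Groth.L18.SchFin
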