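import Groth.Agent.L18.SchFin.InvAlg
import Groth.Agent.L18.SchFin.Iso
import Mathlib.CategoryTheory.SingleObj

/-!
Invariants of finite families of endomorphisms in the category of étale covers, and quotients by
finite groups in its opposite.
-/

set_option autoImplicit false
universe u

open TensorProduct SchFin CategoryTheory CategoryTheory.Limits Opposite

namespace Groth.L18.SchFin

variable {X : RSpace.{u}}

/-- local triviality of étale covers -/
def HLT (X : RSpace.{u}) : Prop :=
  ∀ A : FEt X, ∃ (B : Alg X) (n : ℕ), B.IsCovering ∧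
    ∀ p : X.pt, Nonempty (TensorProduct (X.ring p) (B.carrier p) (A.obj.carrier p) ≃ₐ[B.carrier p] (Fin n → B.carrier p))

variable {A : FEt X} {ι : Type u} (σ : ι → (A ⟶ A))

/-- the endomorphisms at a point -/
abbrev σAt (p : X.pt) : ι → (A.obj.carrier p →ₐ[X.ring p] A.obj.carrier p) := fun g => (σ g).hom.app p

/-- pointwise invariants -/
noncomputable def invAlg : Alg X where
  carrier p := fixedAlg (σAt σ p)
  res {p q} h := ((A.obj.res h).comp (fixedAlg (σAt σ p)).val.toRingHom).codRestrict (fixedAlg (σAt σ q))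
    fun a => mem_fixedAlg.mpr fun g => by
      show (σ g).hom.app q (A.obj.res h a.1) = A.obj.res h a.1
      rw [← (σ g).hom.compat]
      exact congrArg _ (mem_fixedAlg.mp a.2 g)
  res_algebraMap h r := Subtype.ext (A.obj.res_algebraMap h r)
  res_self p a := Subtype.ext (A.obj.res_self p a.1)
  res_comp h h' a := Subtype.ext (A.obj.res_comp h h' a.1)

/-- the inclusion of the invariants -/
noncomputable def invInclAlg : invAlg σ ⟶ A.obj :=
  { app := fun p => (fixedAlg (σAt σ p)).val, compat := fun _ _ => rfl }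

theorem invAlg_isEtCover [Finite ι] (hX : X.IsSchematic) (hlt : HLT X) : (invAlg σ).IsEtCover := by
  refine ⟨isQcoh_of_bcMap (fun {p q} h => ?_), fun p => ?_⟩
  · letI := resAlg X h
    haveI := flat_res hX h
    have hcomm : ∀ z, bcMap A.obj h (fixedBC (S := X.ring q) (σAt σ p) z) =
        (invInclAlg σ).app q (bcMap (invAlg σ) h z) := bcMap_map (invInclAlg σ) h
    refine ⟨fun z z' e => fixedBC_injective (σAt σ p) ((bcMap_bijective A.property.1 h).1 ?_), fun b => ?_⟩
    · rw [hcomm, hcomm]; exact congrArg _ e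
    · obtain ⟨z, hz⟩ := (bcMap_bijective A.property.1 h).2 b.1
      obtain ⟨w, hw⟩ := mem_range_lTensor_fixed (S := X.ring q) (σAt σ p) z fun g =>
        (bcMap_bijective A.property.1 h).1 (by
          rw [bcMap_map (σ g).hom h, hz]
          exact mem_fixedAlg.mp b.2 g)
      refine ⟨w, Subtype.ext ?_⟩
      show (invInclAlg σ).app q (bcMap (invAlg σ) h w) = b.1
      rw [← hcomm, show fixedBC (S := X.ring q) (σAt σ p) w = z from hw, hz]
  · haveI := hX.1.1 p
    haveI := finite_at A p
    obtain ⟨B, n, hB, he⟩ := hlt A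
    haveI := (hB.2 p).2
    obtain ⟨e⟩ := he p
    exact ⟨inferInstanceAs (Module.Finite (X.ring p) (Subalgebra.toSubmodule (fixedAlg (σAt σ p)))),
      etale_fixed e (σAt σ p)⟩

variable [Finite ι] (hX : X.IsSchematic) (hlt : HLT X)

/-- the invariants as an étale cover -/
noncomputable def invObj : FEt X := ⟨invAlg σ, invAlg_isEtCover σ hX hlt⟩

/-- the inclusion of the invariants -/
noncomputable def invIncl : invObj σ hX hlt ⟶ A := ObjectProperty.homMk (invInclAlg σ)

theorem invIncl_comp (g : ι) : invIncl σ hX hlt ≫ σ g = invIncl σ hX hlt :=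
  fet_ext fun _ a => mem_fixedAlg.mp a.2 g

theorem invIncl_injective (p : X.pt) : Function.Injective ((invIncl σ hX hlt).hom.app p) :=
  Subtype.val_injective

/-- lift into the invariants -/
noncomputable def invLift {T : FEt X} (u : T ⟶ A) (hu : ∀ g, u ≫ σ g = u) : T ⟶ invObj σ hX hlt :=
  ObjectProperty.homMk
    ({ app := fun p => (u.hom.app p).codRestrict (fixedAlg (σAt σ p))
        fun t => mem_fixedAlg.mpr fun g => hom_congr (hu g) p t
       compat := fun h t => Subtype.ext (u.hom.compat h t) } : T.obj ⟶ invAlg σ)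

theorem invLift_comp {T : FEt X} (u : T ⟶ A) (hu : ∀ g, u ≫ σ g = u) :
    invLift σ hX hlt u hu ≫ invIncl σ hX hlt = u :=
  fet_ext fun _ _ => rfl

include hX hlt in
theorem hasLimitsOfShape_singleObj (G : Type u) [Group G] [Finite G] :
    HasLimitsOfShape (SingleObj G) (FEt X) := by
  refine ⟨fun K => ?_⟩
  let σ : G → (K.obj (SingleObj.star G) ⟶ K.obj (SingleObj.star G)) := fun g => K.map g
  haveI := fun (p : X.pt) => invIncl_injective σ hX hlt p
  haveI : Mono (invIncl σ hX hlt) := mono_of_injective _ (invIncl_injective σ hX hlt)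
  refine ⟨⟨⟨{ pt := invObj σ hX hlt
              π := { app := fun _ => invIncl σ hX hlt
                     naturality := fun _ _ g => (Category.id_comp _).trans (invIncl_comp σ hX hlt g).symm } },
    { lift := fun s => invLift σ hX hlt (s.π.app (SingleObj.star G)) fun g => s.w g
      fac := fun s _ => invLift_comp σ hX hlt _ _
      uniq := fun s m hm => by
        rw [← cancel_mono (invIncl σ hX hlt), invLift_comp]
        exact hm (SingleObj.star G) }⟩⟩⟩

section Op

variable {G : Type u} [Group G] [Finite G] (K : SingleObj G ⥤ (FEt X)ᵒᵖ)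

/-- the action on the étale cover underlying an action in the opposite category -/
def opAct : G → ((K.obj (SingleObj.star G)).unop ⟶ (K.obj (SingleObj.star G)).unop) :=
  fun g => (K.map (X := SingleObj.star G) (Y := SingleObj.star G) g).unop

/-- the quotient cocone -/
noncomputable def quotCocone : Cocone K where
  pt := op (invObj (opAct K) hX hlt)
  ι :=
    { app := fun _ => (invIncl (opAct K) hX hlt).op
      naturality := fun _ _ g => by
        refine Eq.trans ?_ (Category.comp_id _).symm
        exact Quiver.Hom.unop_inj (invIncl_comp (opAct K) hX hlt g) }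

/-- the quotient cocone is a colimit -/
noncomputable def quotIsColimit : IsColimit (quotCocone hX hlt K) where
  desc s := (invLift (opAct K) hX hlt (s.ι.app (SingleObj.star G)).unop
    fun g => congrArg Quiver.Hom.unop (s.w g)).op
  fac s _ := Quiver.Hom.unop_inj (invLift_comp (opAct K) hX hlt (s.ι.app (SingleObj.star G)).unop
    (fun g => congrArg Quiver.Hom.unop (s.w g)))
  uniq s m hm := by
    haveI : Mono (invIncl (opAct K) hX hlt) := mono_of_injective _ (invIncl_injective _ hX hlt)
    apply Quiver.Hom.unop_inj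
    refine (cancel_mono (invIncl (opAct K) hX hlt)).mp ?_
    exact (congrArg Quiver.Hom.unop (hm (SingleObj.star G))).trans
      (invLift_comp (opAct K) hX hlt (s.ι.app (SingleObj.star G)).unop (fun g => congrArg Quiver.Hom.unop (s.w g))).symm

include hX hlt in
theorem hasQuotients (G : Type u) [Group G] [Finite G] :
    HasColimitsOfShape (SingleObj G) (FEt X)ᵒᵖ :=
  ⟨fun K => ⟨⟨⟨_, quotIsColimit hX hlt K⟩⟩⟩⟩

variable {Ω : Type u} [Field Ω] [IsAlgClosed Ω] (ξ : GeomPt X Ω)

theorem opAct_comp (g h : G) (a : (K.obj (SingleObj.star G)).unop.obj.carrier ξ.base) :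
    (opAct K g).hom.app ξ.base ((opAct K h).hom.app ξ.base a) = (opAct K (h * g)).hom.app ξ.base a := by
  have e : opAct K h ≫ opAct K g = opAct K (h * g) :=
    congrArg Quiver.Hom.unop (K.map_comp (X := SingleObj.star G) (Y := SingleObj.star G) (Z := SingleObj.star G) g h).symm
  exact hom_congr e ξ.base a

theorem opAct_one (a : (K.obj (SingleObj.star G)).unop.obj.carrier ξ.base) :
    (opAct K 1).hom.app ξ.base a = a :=
  hom_congr (congrArg Quiver.Hom.unop (K.map_id (SingleObj.star G))) ξ.base a

include hX hlt in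
theorem preservesQuotients (G : Type u) [Group G] [Finite G] :
    PreservesColimitsOfShape (SingleObj G) ξ.fibFunctor := by
  refine ⟨fun {K} => preservesColimit_of_preserves_colimit_cocone (quotIsColimit hX hlt K) ?_⟩
  let A := (K.obj (SingleObj.star G)).unop
  let j := invIncl (opAct K) hX hlt
  have hsurj : Function.Surjective (ξ.fibMap j.hom) :=
    (fibMap_surjective_iff ξ j).mpr (comap_surjective_of_injective ξ j (invIncl_injective _ hX hlt))
  have horb : ∀ x y : ξ.Fib A.obj, ξ.fibMap j.hom x = ξ.fibMap j.hom y →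
      ∃ g, ξ.fibMap (opAct K g).hom x = y := by
    intro x y hxy
    obtain ⟨φ, rfl⟩ := (fibEquiv ξ A).surjective x
    obtain ⟨ψ, rfl⟩ := (fibEquiv ξ A).surjective y
    have he : φ.comap ξ j.hom = ψ.comap ξ j.hom :=
      (fibEquiv ξ _).injective ((fibMap_fibEquiv ξ j φ).symm.trans (hxy.trans (fibMap_fibEquiv ξ j ψ)))
    haveI := finite_at A ξ.base
    obtain ⟨g, hg⟩ := exists_eq_comp_of_eqOn_fixed (σAt (opAct K) ξ.base) (opAct_one K ξ)
      (fun g => ⟨Equiv.mulRight g, fun h a => opAct_comp K ξ g h a⟩) φ.1 ψ.1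
      (fun r => (φ.2 r).trans (ψ.2 r).symm) (fun a ha => RingHom.congr_fun (congrArg Subtype.val he) ⟨a, ha⟩)
    exact ⟨g, (fibMap_fibEquiv ξ (opAct K g) φ).trans (congrArg _ (Pts.ext ξ fun a => (hg a).symm))⟩
  let S := Function.surjInv hsurj
  have hS : ∀ y, ξ.fibMap j.hom (S y) = y := Function.surjInv_eq hsurj
  exact
    { desc := fun s => FintypeCat.homMk fun y => (s.ι.app (SingleObj.star G)) (S y)
      fac := fun s _ => FintypeCat.hom_ext _ _ fun x => by
        obtain ⟨g, hg⟩ := horb (S (ξ.fibMap j.hom x)) x (hS _)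
        show (s.ι.app (SingleObj.star G)) (S (ξ.fibMap j.hom x)) = (s.ι.app (SingleObj.star G)) x
        conv_rhs => rw [← hg]
        exact (ConcreteCategory.congr_hom (s.w (j := SingleObj.star G) (j' := SingleObj.star G) g) _).symm
      uniq := fun s m hm => FintypeCat.hom_ext _ _ fun y => by
        show m y = (s.ι.app (SingleObj.star G)) (S y)
        rw [← hm (SingleObj.star G)]
        exact congrArg (fun t => m t) (hS y).symm }

end Op

end Groth.L18.SchFin
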