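import Groth.Agent.L18.SchFin.CommAlg
import Mathlib.RingTheory.Etale.Descent
import Mathlib.RingTheory.Flat.Equalizer
import Mathlib.LinearAlgebra.TensorProduct.Pi
import Mathlib.Algebra.BigOperators.Ring.Finset
import Mathlib.Algebra.MvPolynomial.Equiv
import Mathlib.RingTheory.MvPolynomial.Basic

/-!
Invariants of finite families of endomorphisms of finite étale algebras.
-/

set_option autoImplicit false
universe u

open TensorProduct

namespace Groth.L18.SchFin

section

variable {R A : Type u} [CommRing R] [CommRing A] [Algebra R A] {ι : Type u}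

/-- the common fixed points of a family of endomorphisms -/
def fixedAlg (σ : ι → (A →ₐ[R] A)) : Subalgebra R A := ⨅ g, AlgHom.equalizer (σ g) (AlgHom.id R A)

theorem mem_fixedAlg {σ : ι → (A →ₐ[R] A)} {a : A} : a ∈ fixedAlg σ ↔ ∀ g, σ g a = a := by
  simp [fixedAlg, Algebra.mem_iInf, AlgHom.mem_equalizer]

/-- the map measuring the defect of invariance -/
def defect (σ : ι → (A →ₐ[R] A)) : A →ₗ[R] ι → A :=
  LinearMap.pi fun g => (σ g).toLinearMap - LinearMap.id

theorem ker_defect (σ : ι → (A →ₐ[R] A)) :
    LinearMap.ker (defect σ) = Subalgebra.toSubmodule (fixedAlg σ) := by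
  ext a
  simp [defect, mem_fixedAlg, funext_iff, sub_eq_zero]

/-- flat base change commutes with fixed points -/
theorem mem_range_lTensor_fixed [Finite ι] {S : Type u} [CommRing S] [Algebra R S] [Module.Flat R S]
    (σ : ι → (A →ₐ[R] A)) (z : S ⊗[R] A)
    (hz : ∀ g, Algebra.TensorProduct.map (AlgHom.id S S) (σ g) z = z) :
    ∃ w : S ⊗[R] fixedAlg σ, Algebra.TensorProduct.map (AlgHom.id S S) (fixedAlg σ).val w = z := by
  classical
  haveI := Fintype.ofFinite ι
  have h0 : LinearMap.lTensor S (defect σ) z = 0 := by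
    refine (TensorProduct.piRight R R S (fun _ : ι => A)).injective (funext fun g => ?_)
    rw [map_zero, Pi.zero_apply]
    have : ∀ y, (TensorProduct.piRight R R S (fun _ : ι => A) (LinearMap.lTensor S (defect σ) y)) g =
        Algebra.TensorProduct.map (AlgHom.id S S) (σ g) y - y := by
      intro y
      induction y using TensorProduct.induction_on with
      | zero => simp
      | tmul s a => simp [defect, TensorProduct.tmul_sub]
      | add y y' hy hy' => simp only [map_add, Pi.add_apply, hy, hy']; abel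
    rw [this, hz, sub_self]
  have hmem : z ∈ LinearMap.range (AlgebraTensorModule.lTensor S S (LinearMap.ker (defect σ)).subtype) := by
    rw [← Module.Flat.ker_lTensor_eq]
    exact h0
  obtain ⟨v, rfl⟩ := hmem
  let i : LinearMap.ker (defect σ) →ₗ[R] fixedAlg σ :=
    { toFun := fun a => ⟨a.1, (SetLike.ext_iff.mp (ker_defect σ) a.1).mp a.2⟩
      map_add' := fun _ _ => rfl
      map_smul' := fun _ _ => rfl }
  refine ⟨LinearMap.lTensor S i v, ?_⟩
  have key : ∀ v, Algebra.TensorProduct.map (AlgHom.id S S) (fixedAlg σ).val (LinearMap.lTensor S i v) =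
      AlgebraTensorModule.lTensor S S (LinearMap.ker (defect σ)).subtype v := by
    intro v
    induction v using TensorProduct.induction_on with
    | zero => simp
    | tmul s a => rfl
    | add y y' hy hy' => simp only [map_add, hy, hy']
  exact key v

/-- base change of the fixed points -/
noncomputable def fixedBC {S : Type u} [CommRing S] [Algebra R S] (σ : ι → (A →ₐ[R] A)) :
    S ⊗[R] fixedAlg σ →ₐ[S] S ⊗[R] A :=
  Algebra.TensorProduct.map (AlgHom.id S S) (fixedAlg σ).val

theorem fixedBC_injective {S : Type u} [CommRing S] [Algebra R S] [Module.Flat R S] (σ : ι → (A →ₐ[R] A)) :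
    Function.Injective (fixedBC (S := S) σ) := by
  have e : ∀ v, fixedBC (S := S) σ v = LinearMap.lTensor S (fixedAlg σ).val.toLinearMap v := by
    intro v
    induction v using TensorProduct.induction_on with
    | zero => simp
    | tmul s a => rfl
    | add y y' hy hy' => simp only [map_add, hy, hy']
  intro v v' h
  rw [e, e] at h
  exact Module.Flat.lTensor_preserves_injective_linearMap _ Subtype.val_injective h

theorem fixedBC_fixed {S : Type u} [CommRing S] [Algebra R S] (σ : ι → (A →ₐ[R] A)) (g : ι)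
    (v : S ⊗[R] fixedAlg σ) :
    Algebra.TensorProduct.map (AlgHom.id S S) (σ g) (fixedBC σ v) = fixedBC σ v := by
  induction v using TensorProduct.induction_on with
  | zero => simp
  | tmul s a =>
    show s ⊗ₜ σ g a.1 = s ⊗ₜ a.1
    rw [mem_fixedAlg.mp a.2 g]
  | add y y' hy hy' => simp only [map_add, hy, hy']

end

section Split

variable {B : Type u} [CommRing B] {n : ℕ} {ι : Type u} (τ : ι → ((Fin n → B) →ₐ[B] (Fin n → B)))

theorem split_expand (g : ι) (x : Fin n → B) (i : Fin n) :
    τ g x i = ∑ j, x j * τ g (Pi.single j 1) i := by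
  conv_lhs => rw [pi_eq_sum_univ' x]
  simp [map_sum, map_smul]

theorem split_orth (g : ι) (i : Fin n) {j j' : Fin n} (h : j ≠ j') :
    τ g (Pi.single j 1) i * τ g (Pi.single j' 1) i = 0 := by
  rw [← Pi.mul_apply, ← map_mul,
    show (Pi.single j 1 : Fin n → B) * Pi.single j' 1 = 0 from funext fun l => by
      by_cases hl : l = j
      · subst hl; simp [h]
      · simp [hl],
    map_zero, Pi.zero_apply]

theorem split_idem (g : ι) (i j : Fin n) : IsIdempotentElem (τ g (Pi.single j 1) i) := by
  show τ g (Pi.single j 1) i * τ g (Pi.single j 1) i = _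
  rw [← Pi.mul_apply, ← map_mul]
  simp [← Pi.single_mul]

theorem split_sum (g : ι) (i : Fin n) : ∑ j, τ g (Pi.single j 1) i = 1 := by
  have := split_expand τ g 1 i
  simpa using this.symm

variable [Fintype ι]

/-- the idempotent of a choice of permutations -/
def splitIdem (c : ι → Fin n → Fin n) : B := ∏ g, ∏ i, τ g (Pi.single (c g i) 1) i

theorem splitIdem_idem (c : ι → Fin n → Fin n) : IsIdempotentElem (splitIdem τ c) := by
  show _ * _ = _
  simp only [splitIdem, ← Finset.prod_mul_distrib]
  exact Finset.prod_congr rfl fun g _ => Finset.prod_congr rfl fun i _ => split_idem τ g i _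

theorem splitIdem_mul (c : ι → Fin n → Fin n) (g : ι) (i j : Fin n) :
    splitIdem τ c * τ g (Pi.single j 1) i = if j = c g i then splitIdem τ c else 0 := by
  classical
  have hd : τ g (Pi.single (c g i) 1) i ∣ splitIdem τ c :=
    (Finset.dvd_prod_of_mem (fun i => τ g (Pi.single (c g i) 1) i) (Finset.mem_univ i)).trans
      (Finset.dvd_prod_of_mem (fun g => ∏ i, τ g (Pi.single (c g i) 1) i) (Finset.mem_univ g))
  obtain ⟨r, hr⟩ := hd
  split
  · subst j
    rw [hr, mul_comm _ r, mul_assoc, (split_idem τ g i _).eq]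
  · rename_i hne
    rw [hr, mul_comm _ r, mul_assoc, split_orth τ g i (Ne.symm hne), mul_zero]

theorem splitIdem_orth {c c' : ι → Fin n → Fin n} (h : c ≠ c') : splitIdem τ c * splitIdem τ c' = 0 := by
  classical
  obtain ⟨g, hg⟩ := Function.ne_iff.mp h
  obtain ⟨i, hi⟩ := Function.ne_iff.mp hg
  have h1 : τ g (Pi.single (c' g i) 1) i ∣ splitIdem τ c' :=
    (Finset.dvd_prod_of_mem (fun i => τ g (Pi.single (c' g i) 1) i) (Finset.mem_univ i)).trans
      (Finset.dvd_prod_of_mem (fun g => ∏ i, τ g (Pi.single (c' g i) 1) i) (Finset.mem_univ g))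
  obtain ⟨r, hr⟩ := h1
  rw [hr, ← mul_assoc, splitIdem_mul, if_neg (Ne.symm hi), zero_mul]

theorem splitIdem_sum [DecidableEq ι] : ∑ c : ι → Fin n → Fin n, splitIdem τ c = 1 := by
  simp only [splitIdem]
  rw [← Fintype.prod_sum (fun g (d : Fin n → Fin n) => ∏ i, τ g (Pi.single (d i) 1) i)]
  refine Finset.prod_eq_one fun g _ => ?_
  rw [← Fintype.prod_sum (fun i j => τ g (Pi.single j 1) i)]
  exact Finset.prod_eq_one fun i _ => split_sum τ g i

/-- invariant points relative to a choice of permutations -/
theorem splitIdem_mul_fixed (c : ι → Fin n → Fin n) {x : Fin n → B} (hx : x ∈ fixedAlg τ) (g : ι) (i : Fin n) :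
    splitIdem τ c * x (c g i) = splitIdem τ c * x i := by
  classical
  conv_rhs => rw [← mem_fixedAlg.mp hx g, split_expand, Finset.mul_sum]
  rw [Finset.sum_eq_single (c g i)]
  · rw [mul_left_comm, splitIdem_mul, if_pos rfl, mul_comm]
  · intro j _ hj
    rw [mul_left_comm, splitIdem_mul, if_neg hj, mul_zero]
  · intro h; exact (h (Finset.mem_univ _)).elim

/-- the classes of a choice of permutations -/
def orbitSetoid (c : ι → Fin n → Fin n) : Setoid (Fin n) :=
  Relation.EqvGen.setoid fun i j => ∃ g, c g i = j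

theorem splitIdem_mul_const (c : ι → Fin n → Fin n) {x : Fin n → B} (hx : x ∈ fixedAlg τ) {i j : Fin n}
    (h : (orbitSetoid c).r i j) : splitIdem τ c * x i = splitIdem τ c * x j := by
  induction h with
  | rel i j h => obtain ⟨g, rfl⟩ := h; exact (splitIdem_mul_fixed τ c hx g i).symm
  | refl i => rfl
  | symm i j _ ih => exact ih.symm
  | trans i j k _ _ ih ih' => exact ih.trans ih'

theorem finite_etale_fixed_pi : Algebra.Etale B (fixedAlg τ) := by
  classical
  let Cl : (ι → Fin n → Fin n) → Type := fun c => Quotient (orbitSetoid c)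
  let K := Σ c : ι → Fin n → Fin n, Cl c
  haveI : ∀ c, Finite (Cl c) := fun c => Finite.of_surjective (Quotient.mk (orbitSetoid c)) Quotient.mk_surjective
  haveI : ∀ c, Fintype (Cl c) := fun c => Fintype.ofFinite _
  let T : K → Type u := fun k => B ⧸ Ideal.span {1 - splitIdem τ k.1}
  haveI : ∀ k, Algebra.Etale B (T k) := fun k => etale_quotient_one_sub (R := B) (splitIdem_idem τ k.1)
  let Φ : fixedAlg τ →ₐ[B] ∀ k, T k :=
    (Pi.algHom B T fun k => (Ideal.Quotient.mkₐ B _).comp ((Pi.evalAlgHom B (fun _ : Fin n => B) k.2.out).comp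
      (fixedAlg τ).val))
  have hinj : Function.Injective Φ := by
    rw [injective_iff_map_eq_zero]
    intro x hx
    refine Subtype.ext (funext fun i => ?_)
    have hc : ∀ c, splitIdem τ c * x.1 i = 0 := fun c => by
      have h1 : x.1 (Quotient.mk (orbitSetoid c) i).out * splitIdem τ c = 0 :=
        (mem_span_one_sub_iff (splitIdem_idem τ c)).mp
          (Ideal.Quotient.eq_zero_iff_mem.mp (congrFun hx ⟨c, Quotient.mk (orbitSetoid c) i⟩))
      rw [← splitIdem_mul_const τ c x.2 (Quotient.exact (Quotient.out_eq (Quotient.mk (orbitSetoid c) i))),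
        mul_comm, h1]
    show x.1 i = 0
    rw [← one_mul (x.1 i), ← splitIdem_sum τ, Finset.sum_mul]
    exact Finset.sum_eq_zero fun c _ => hc c
  have hsurj : Function.Surjective Φ := by
    intro t
    choose b hb using fun k => Ideal.Quotient.mk_surjective (t k)
    let x : Fin n → B := fun i => ∑ c, splitIdem τ c * b ⟨c, Quotient.mk (orbitSetoid c) i⟩
    have hx : x ∈ fixedAlg τ := by
      refine mem_fixedAlg.mpr fun g => funext fun i => ?_
      rw [split_expand]
      simp only [x, Finset.sum_mul]
      rw [Finset.sum_comm]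
      refine Finset.sum_congr rfl fun c _ => ?_
      rw [Finset.sum_eq_single (c g i)]
      · rw [mul_right_comm, splitIdem_mul, if_pos rfl]
        congr 2
        exact congrArg (Sigma.mk c) (Quotient.sound ((Relation.EqvGen.rel _ _ ⟨g, rfl⟩).symm _ _))
      · intro j _ hj
        rw [mul_right_comm, splitIdem_mul, if_neg hj, zero_mul]
      · intro h; exact (h (Finset.mem_univ _)).elim
    refine ⟨⟨x, hx⟩, funext fun k => ?_⟩
    obtain ⟨c, q⟩ := k
    rw [← hb]
    show Ideal.Quotient.mk _ (x q.out) = Ideal.Quotient.mk _ _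
    rw [Ideal.Quotient.eq, mem_span_one_sub_iff (splitIdem_idem τ c), sub_mul, sub_eq_zero]
    simp only [x, Finset.sum_mul]
    rw [Finset.sum_eq_single c]
    · rw [Quotient.out_eq, mul_right_comm, (splitIdem_idem τ c).eq, mul_comm]
    · intro c' _ hc'
      rw [mul_right_comm, splitIdem_orth τ hc', zero_mul]
    · intro h; exact (h (Finset.mem_univ _)).elim
  exact Algebra.Etale.of_equiv (AlgEquiv.ofBijective Φ ⟨hinj, hsurj⟩).symm

end Split

section Descent

variable {R A : Type u} [CommRing R] [CommRing A] [Algebra R A] {ι : Type u} [Finite ι]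

/-- fixed points of a locally split algebra are étale -/
theorem etale_fixed {B : Type u} [CommRing B] [Algebra R B] [Module.FaithfullyFlat R B] {n : ℕ}
    (e : B ⊗[R] A ≃ₐ[B] (Fin n → B)) (σ : ι → (A →ₐ[R] A)) : Algebra.Etale R (fixedAlg σ) := by
  haveI := Fintype.ofFinite ι
  let τ : ι → ((Fin n → B) →ₐ[B] (Fin n → B)) := fun g =>
    e.toAlgHom.comp ((Algebra.TensorProduct.map (AlgHom.id B B) (σ g)).comp e.symm.toAlgHom)
  have hτ : ∀ g y, τ g (e y) = e (Algebra.TensorProduct.map (AlgHom.id B B) (σ g) y) := fun g y => by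
    show e (Algebra.TensorProduct.map (AlgHom.id B B) (σ g) (e.symm (e y))) = _
    rw [e.symm_apply_apply]
  let Φ : B ⊗[R] fixedAlg σ →ₐ[B] fixedAlg τ :=
    (e.toAlgHom.comp (fixedBC σ)).codRestrict _ fun v => mem_fixedAlg.mpr fun g => by
      show τ g (e (fixedBC σ v)) = e (fixedBC σ v)
      rw [hτ, fixedBC_fixed]
  have hΦ : Function.Bijective Φ := by
    refine ⟨fun v v' h => fixedBC_injective σ (e.injective (congrArg Subtype.val h)), fun c => ?_⟩
    obtain ⟨w, hw⟩ := mem_range_lTensor_fixed (S := B) σ (e.symm c.1) (fun g => e.injective (by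
      rw [← hτ, e.apply_symm_apply]
      exact mem_fixedAlg.mp c.2 g))
    refine ⟨w, Subtype.ext ?_⟩
    show e (fixedBC σ w) = c.1
    rw [show fixedBC σ w = e.symm c.1 from hw, e.apply_symm_apply]
  haveI : Algebra.Etale B (fixedAlg τ) := finite_etale_fixed_pi τ
  haveI : Algebra.Etale B (B ⊗[R] fixedAlg σ) := Algebra.Etale.of_equiv (AlgEquiv.ofBijective Φ hΦ).symm
  exact Algebra.Etale.of_etale_tensorProduct_of_faithfullyFlat B

end Descent

section Orbit

variable {R A Ω : Type u} [CommRing R] [CommRing A] [Algebra R A] [Module.Finite R A] [Field Ω]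
  {G : Type u} [Group G] [Finite G]

/-- two points agreeing on the invariants of a finite group differ by a group element -/
theorem exists_eq_comp_of_eqOn_fixed (σ : G → (A →ₐ[R] A)) (h1 : ∀ a, σ 1 a = a)
    (hperm : ∀ g, ∃ π : Equiv.Perm G, ∀ h a, σ g (σ h a) = σ (π h) a)
    (φ ψ : A →+* Ω) (hR : ∀ r, φ (algebraMap R A r) = ψ (algebraMap R A r))
    (h : ∀ a ∈ fixedAlg σ, φ a = ψ a) : ∃ g, ∀ a, ψ a = φ (σ g a) := by
  classical
  haveI := Fintype.ofFinite G
  obtain ⟨m, w, hw⟩ := Module.Finite.exists_fin (R := R) (M := A)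
  let α : MvPolynomial (Fin m) A := ∑ i, MvPolynomial.C (w i) * MvPolynomial.X i
  let ρ : G → (MvPolynomial (Fin m) A →+* MvPolynomial (Fin m) A) := fun g => MvPolynomial.map (σ g).toRingHom
  let F : Polynomial (MvPolynomial (Fin m) A) := ∏ g, (Polynomial.X - Polynomial.C (ρ g α))
  have hF : ∀ g, F.map (ρ g) = F := by
    intro g
    obtain ⟨π, hπ⟩ := hperm g
    simp only [F, Polynomial.map_prod, Polynomial.map_sub, Polynomial.map_X, Polynomial.map_C]
    refine Fintype.prod_equiv π _ _ fun h' => ?_
    have e : (σ g).toRingHom.comp (σ h').toRingHom = (σ (π h')).toRingHom := RingHom.ext fun a => hπ h' a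
    show Polynomial.X - Polynomial.C (ρ g (ρ h' α)) = Polynomial.X - Polynomial.C (ρ (π h') α)
    exact congrArg (fun t => Polynomial.X - Polynomial.C t) ((MvPolynomial.map_map _ _ α).trans (by simp only [ρ]; rw [← e]))
  have hco : F.map (MvPolynomial.map φ : MvPolynomial (Fin m) A →+* MvPolynomial (Fin m) Ω) = F.map (MvPolynomial.map ψ) := by
    refine Polynomial.ext fun k => ?_
    simp only [Polynomial.coeff_map]
    refine MvPolynomial.ext _ _ fun d => ?_
    simp only [MvPolynomial.coeff_map]
    refine h _ (mem_fixedAlg.mpr fun g => ?_)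
    have hk := congrArg (fun q => MvPolynomial.coeff d (Polynomial.coeff q k)) (hF g)
    simp only [Polynomial.coeff_map, ρ, MvPolynomial.coeff_map] at hk
    exact hk
  have h0 : Polynomial.eval (MvPolynomial.map ψ α) (F.map (MvPolynomial.map φ : MvPolynomial (Fin m) A →+* MvPolynomial (Fin m) Ω)) = 0 := by
    rw [hco]
    simp only [F, Polynomial.map_prod, Polynomial.map_sub, Polynomial.map_X, Polynomial.map_C,
      Polynomial.eval_prod, Polynomial.eval_sub, Polynomial.eval_X, Polynomial.eval_C]
    refine Finset.prod_eq_zero (Finset.mem_univ 1) (sub_eq_zero.mpr ?_)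
    have e : (σ 1).toRingHom = RingHom.id A := RingHom.ext h1
    simp only [ρ, e]
    exact congrArg _ (MvPolynomial.map_id α).symm
  simp only [F, Polynomial.map_prod, Polynomial.map_sub, Polynomial.map_X, Polynomial.map_C,
    Polynomial.eval_prod, Polynomial.eval_sub, Polynomial.eval_X, Polynomial.eval_C] at h0
  obtain ⟨g, -, hg⟩ := Finset.prod_eq_zero_iff.mp h0
  refine ⟨g, fun a => ?_⟩
  have hwi : ∀ i, ψ (w i) = φ (σ g (w i)) := by
    intro i
    have hcα : MvPolynomial.coeff (Finsupp.single i 1) α = w i := by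
      simp [α, MvPolynomial.coeff_sum, MvPolynomial.C_mul_X_eq_monomial, MvPolynomial.coeff_monomial,
        Finsupp.single_eq_single_iff]
    have hc := congrArg (MvPolynomial.coeff (Finsupp.single i 1)) (sub_eq_zero.mp hg)
    simp only [ρ, MvPolynomial.coeff_map, hcα] at hc
    exact hc
  have ha : a ∈ Submodule.span R (Set.range w) := by rw [hw]; trivial
  induction ha using Submodule.span_induction with
  | mem x hx => obtain ⟨i, rfl⟩ := hx; exact hwi i
  | zero => simp
  | add x y _ _ hx hy => rw [map_add, map_add, map_add, hx, hy]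
  | smul r x _ hx => rw [Algebra.smul_def, map_mul, map_mul, map_mul, AlgHom.commutes, hx, hR]

end Orbit

end Groth.L18.SchFin
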