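import Groth.Agent.L18.SchFin.Cat

/-!
Pushouts of étale covers of a finite ringed poset: pointwise tensor products.
-/

set_option autoImplicit false
universe u

open TensorProduct SchFin CategoryTheory CategoryTheory.Limits

namespace Groth.L18.SchFin

theorem finite_etale_tensor {R A B C : Type u} [CommRing R] [CommRing A] [CommRing B] [CommRing C]
    [Algebra R A] [Algebra R B] [Algebra R C] [Algebra A B] [Algebra A C] [IsScalarTower R A B]
    [IsScalarTower R A C] [Algebra.Etale R A] [Algebra.Etale R B] [Algebra.Etale R C] [Module.Finite R B]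
    [Module.Finite R C] (alg : Algebra R (B ⊗[A] C))
    (h : ∀ r, alg.algebraMap r = algebraMap R B r ⊗ₜ (1 : C)) :
    @Module.Finite R (B ⊗[A] C) _ _ alg.toModule ∧ @Algebra.Etale R (B ⊗[A] C) _ _ alg := by
  haveI : Algebra.Etale A C := Algebra.Etale.of_restrictScalars R A C
  haveI : Module.Finite A C := Module.Finite.of_restrictScalars_finite R A C
  obtain rfl : alg = Algebra.TensorProduct.leftAlgebra := Algebra.algebra_ext _ _ h
  haveI : IsScalarTower R B (B ⊗[A] C) := IsScalarTower.of_algebraMap_eq fun _ => rfl
  exact ⟨Module.Finite.trans (R := R) B (B ⊗[A] C), Algebra.Etale.comp R B (B ⊗[A] C)⟩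

variable {X : RSpace.{u}} {A B C : Alg X} (f : A ⟶ B) (g : A ⟶ C)

/-- the value of the pushout at a point -/
def Tn (p : X.pt) : Type u :=
  @TensorProduct (A.carrier p) _ (B.carrier p) (C.carrier p) _ _
    (f.app p).toRingHom.toAlgebra.toModule (g.app p).toRingHom.toAlgebra.toModule

noncomputable instance instCommRingTn (p : X.pt) : CommRing (Tn f g p) :=
  @Algebra.TensorProduct.instCommRing (A.carrier p) (B.carrier p) (C.carrier p) _ _
    (f.app p).toRingHom.toAlgebra _ (g.app p).toRingHom.toAlgebra

/-- left inclusion -/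
noncomputable def tnInl (p : X.pt) : B.carrier p →+* Tn f g p :=
  letI := (f.app p).toRingHom.toAlgebra
  letI := (g.app p).toRingHom.toAlgebra
  Algebra.TensorProduct.includeLeftRingHom

/-- right inclusion -/
noncomputable def tnInr (p : X.pt) : C.carrier p →+* Tn f g p :=
  letI := (f.app p).toRingHom.toAlgebra
  letI := (g.app p).toRingHom.toAlgebra
  (Algebra.TensorProduct.includeRight : C.carrier p →ₐ[A.carrier p] B.carrier p ⊗[A.carrier p] C.carrier p).toRingHom

theorem tn_glue (p : X.pt) (a : A.carrier p) : tnInl f g p (f.app p a) = tnInr f g p (g.app p a) :=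
  letI := (f.app p).toRingHom.toAlgebra
  letI := (g.app p).toRingHom.toAlgebra
  Algebra.TensorProduct.tmul_one_eq_one_tmul a

noncomputable instance instAlgebraTn (p : X.pt) : Algebra (X.ring p) (Tn f g p) :=
  ((tnInl f g p).comp (algebraMap (X.ring p) (B.carrier p))).toAlgebra

theorem tnInr_algebraMap (p : X.pt) (r : X.ring p) :
    tnInr f g p (algebraMap _ (C.carrier p) r) = algebraMap (X.ring p) (Tn f g p) r := by
  rw [← (g.app p).commutes r, ← tn_glue, AlgHom.commutes]
  rfl

theorem tn_induction {p : X.pt} {motive : Tn f g p → Prop} (t : Tn f g p) (h0 : motive 0)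
    (hm : ∀ b c, motive (tnInl f g p b * tnInr f g p c)) (hadd : ∀ x y, motive x → motive y → motive (x + y)) :
    motive t := by
  letI := (f.app p).toRingHom.toAlgebra
  letI := (g.app p).toRingHom.toAlgebra
  induction t using TensorProduct.induction_on with
  | zero => exact h0
  | tmul b c =>
    have : (b ⊗ₜ[A.carrier p] c : Tn f g p) = tnInl f g p b * tnInr f g p c := by
      show _ = (b ⊗ₜ[A.carrier p] (1 : C.carrier p)) * ((1 : B.carrier p) ⊗ₜ[A.carrier p] c)
      rw [Algebra.TensorProduct.tmul_mul_tmul, mul_one, one_mul]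
    rw [this]; exact hm b c
  | add x y hx hy => exact hadd x y hx hy

theorem tn_ext {p : X.pt} {T : Type*} [CommRing T] {φ ψ : Tn f g p →+* T}
    (hl : ∀ b, φ (tnInl f g p b) = ψ (tnInl f g p b)) (hr : ∀ c, φ (tnInr f g p c) = ψ (tnInr f g p c)) :
    φ = ψ :=
  RingHom.ext fun t => tn_induction f g (motive := fun t => φ t = ψ t) t (by rw [map_zero, map_zero])
    (fun b c => by rw [map_mul, map_mul, hl, hr]) (fun x y hx hy => by rw [map_add, map_add, hx, hy])

/-- the map out of the pushout -/
noncomputable def tnLift {p : X.pt} {T : Type u} [CommRing T] (u : B.carrier p →+* T) (v : C.carrier p →+* T)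
    (h : ∀ a, u (f.app p a) = v (g.app p a)) : Tn f g p →+* T :=
  letI := (f.app p).toRingHom.toAlgebra
  letI := (g.app p).toRingHom.toAlgebra
  letI : Algebra (A.carrier p) T := (u.comp (f.app p).toRingHom).toAlgebra
  (Algebra.TensorProduct.productMap
    ({ u with commutes' := fun _ => rfl } : B.carrier p →ₐ[A.carrier p] T)
    ({ v with commutes' := fun a => (h a).symm } : C.carrier p →ₐ[A.carrier p] T)).toRingHom

theorem tnLift_inl {p : X.pt} {T : Type u} [CommRing T] (u : B.carrier p →+* T) (v : C.carrier p →+* T)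
    (h : ∀ a, u (f.app p a) = v (g.app p a)) (b : B.carrier p) : tnLift f g u v h (tnInl f g p b) = u b := by
  letI := (f.app p).toRingHom.toAlgebra
  letI := (g.app p).toRingHom.toAlgebra
  letI : Algebra (A.carrier p) T := (u.comp (f.app p).toRingHom).toAlgebra
  show Algebra.TensorProduct.productMap _ _ (b ⊗ₜ[A.carrier p] (1 : C.carrier p)) = u b
  rw [Algebra.TensorProduct.productMap_apply_tmul, map_one, mul_one]
  rfl

theorem tnLift_inr {p : X.pt} {T : Type u} [CommRing T] (u : B.carrier p →+* T) (v : C.carrier p →+* T)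
    (h : ∀ a, u (f.app p a) = v (g.app p a)) (c : C.carrier p) : tnLift f g u v h (tnInr f g p c) = v c := by
  letI := (f.app p).toRingHom.toAlgebra
  letI := (g.app p).toRingHom.toAlgebra
  letI : Algebra (A.carrier p) T := (u.comp (f.app p).toRingHom).toAlgebra
  show Algebra.TensorProduct.productMap _ _ ((1 : B.carrier p) ⊗ₜ[A.carrier p] c) = v c
  rw [Algebra.TensorProduct.productMap_apply_tmul, map_one, one_mul]
  rfl

/-- restriction of the pushout -/
noncomputable def tnRes {p q : X.pt} (h : p ≤ q) : Tn f g p →+* Tn f g q :=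
  tnLift f g ((tnInl f g q).comp (B.res h)) ((tnInr f g q).comp (C.res h)) (fun a => by
    show tnInl f g q (B.res h (f.app p a)) = tnInr f g q (C.res h (g.app p a))
    rw [f.compat, g.compat, tn_glue])

theorem tnRes_inl {p q : X.pt} (h : p ≤ q) (b : B.carrier p) :
    tnRes f g h (tnInl f g p b) = tnInl f g q (B.res h b) :=
  tnLift_inl f g _ _ _ b

theorem tnRes_inr {p q : X.pt} (h : p ≤ q) (c : C.carrier p) :
    tnRes f g h (tnInr f g p c) = tnInr f g q (C.res h c) :=
  tnLift_inr f g _ _ _ c

/-- the pointwise tensor product of algebras -/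
noncomputable def tensorAlg : Alg X where
  carrier p := Tn f g p
  res h := tnRes f g h
  res_algebraMap {p q} h r := by
    show tnRes f g h (tnInl f g p (algebraMap _ _ r)) = tnInl f g q (algebraMap _ _ (X.res h r))
    rw [tnRes_inl, B.res_algebraMap]
  res_self p t := by
    refine RingHom.congr_fun (tn_ext f g (φ := tnRes f g le_rfl) (ψ := RingHom.id _) (fun b => ?_) (fun c => ?_)) t
    · rw [tnRes_inl, B.res_self]; rfl
    · rw [tnRes_inr, C.res_self]; rfl
  res_comp {p q s} h h' t := by
    refine RingHom.congr_fun (tn_ext f g (φ := (tnRes f g h').comp (tnRes f g h))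
      (ψ := tnRes f g (h.trans h')) (fun b => ?_) (fun c => ?_)) t
    · simp only [RingHom.comp_apply, tnRes_inl, B.res_comp]
    · simp only [RingHom.comp_apply, tnRes_inr, C.res_comp]

/-- left inclusion as a morphism -/
noncomputable def tensorInl : B ⟶ tensorAlg f g :=
  { app := fun p => { tnInl f g p with commutes' := fun _ => rfl }
    compat := fun {p q} h b => tnRes_inl f g h b }

/-- right inclusion as a morphism -/
noncomputable def tensorInr : C ⟶ tensorAlg f g :=
  { app := fun p => { tnInr f g p with commutes' := fun r => tnInr_algebraMap f g p r }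
    compat := fun {p q} h c => tnRes_inr f g h c }

theorem tensor_w : f ≫ tensorInl f g = g ≫ tensorInr f g :=
  Alg.hom_ext _ _ fun p => AlgHom.ext fun a => tn_glue f g p a

theorem tensorAlg_isEtCover (hA : A.IsEtCover) (hB : B.IsEtCover) (hC : C.IsEtCover) :
    (tensorAlg f g).IsEtCover := by
  refine ⟨isQcoh_of_bcMap (fun {p q} h => ?_), fun p => ?_⟩
  · letI := resAlg X h
    let eB := AlgEquiv.ofBijective (bcMap B h) (bcMap_bijective hB.1 h)
    let eC := AlgEquiv.ofBijective (bcMap C h) (bcMap_bijective hC.1 h)
    let mB := Algebra.TensorProduct.map (AlgHom.id (X.ring q) (X.ring q)) ((tensorInl f g).app p)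
    let mC := Algebra.TensorProduct.map (AlgHom.id (X.ring q) (X.ring q)) ((tensorInr f g).app p)
    let u := mB.comp eB.symm.toAlgHom
    let v := mC.comp eC.symm.toAlgHom
    have huv : ∀ a : A.carrier q, u.toRingHom (f.app q a) = v.toRingHom (g.app q a) := by
      intro a
      obtain ⟨z, rfl⟩ := (bcMap_bijective hA.1 h).2 a
      rw [← bcMap_map f h, ← bcMap_map g h]
      show mB (eB.symm (eB _)) = mC (eC.symm (eC _))
      rw [AlgEquiv.symm_apply_apply, AlgEquiv.symm_apply_apply]
      induction z using TensorProduct.induction_on with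
      | zero => simp only [map_zero]
      | tmul s a =>
        simp only [Algebra.TensorProduct.map_tmul, mB, mC]
        exact congrArg (fun t => s ⊗ₜ[X.ring p] t) (tn_glue f g p a)
      | add z z' hz hz' => simp only [map_add, hz, hz']
    let ψ : Tn f g q →+* X.ring q ⊗[X.ring p] (tensorAlg f g).carrier p := tnLift f g u.toRingHom v.toRingHom huv
    have h1 : ∀ z, ψ (bcMap (tensorAlg f g) h z) = z := by
      have key : ∀ t : Tn f g p, ψ ((tensorAlg f g).res h t) = (1 : X.ring q) ⊗ₜ t := by
        intro t
        refine RingHom.congr_fun (tn_ext f g (φ := ψ.comp ((tensorAlg f g).res h))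
          (ψ := Algebra.TensorProduct.includeRight.toRingHom) (fun b => ?_) (fun c => ?_)) t
        · show ψ (tnRes f g h (tnInl f g p b)) = _
          rw [tnRes_inl, show ψ (tnInl f g q (B.res h b)) = u (B.res h b) from
            tnLift_inl f g _ _ _ _]
          show mB (eB.symm (B.res h b)) = (1 : X.ring q) ⊗ₜ[X.ring p] tnInl f g p b
          rw [show B.res h b = eB (1 ⊗ₜ b) from ((bcMap_tmul B h 1 b).trans (by rw [map_one, one_mul])).symm,
            AlgEquiv.symm_apply_apply]
          rfl
        · show ψ (tnRes f g h (tnInr f g p c)) = _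
          rw [tnRes_inr, show ψ (tnInr f g q (C.res h c)) = v (C.res h c) from
            tnLift_inr f g _ _ _ _]
          show mC (eC.symm (C.res h c)) = (1 : X.ring q) ⊗ₜ[X.ring p] tnInr f g p c
          rw [show C.res h c = eC (1 ⊗ₜ c) from ((bcMap_tmul C h 1 c).trans (by rw [map_one, one_mul])).symm,
            AlgEquiv.symm_apply_apply]
          rfl
      intro z
      induction z using TensorProduct.induction_on with
      | zero => exact (congrArg ψ (map_zero (bcMap (tensorAlg f g) h))).trans (map_zero ψ)
      | tmul s t =>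
        refine (congrArg ψ (bcMap_tmul (tensorAlg f g) h s t)).trans ?_
        refine (map_mul ψ _ _).trans ?_
        rw [key, show ψ (algebraMap (X.ring q) ((tensorAlg f g).carrier q) s) =
          s ⊗ₜ[X.ring p] (1 : (tensorAlg f g).carrier p) from
          (tnLift_inl f g _ _ _ _).trans (u.commutes s)]
        exact (Algebra.TensorProduct.tmul_mul_tmul _ _ _ _).trans (by rw [mul_one, one_mul])
      | add z z' hz hz' =>
        exact (congrArg ψ (map_add (bcMap (tensorAlg f g) h) z z')).trans
          ((map_add ψ _ _).trans (congrArg₂ (· + ·) hz hz'))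
    refine ⟨Function.LeftInverse.injective h1, fun t => ⟨ψ t, ?_⟩⟩
    refine RingHom.congr_fun (tn_ext f g (φ := (bcMap (tensorAlg f g) h).toRingHom.comp ψ)
      (ψ := RingHom.id (Tn f g q)) (fun b => ?_) (fun c => ?_)) t
    · show bcMap (tensorAlg f g) h (ψ (tnInl f g q b)) = tnInl f g q b
      rw [show ψ (tnInl f g q b) = mB (eB.symm b) from tnLift_inl f g _ _ _ _]
      exact (bcMap_map (tensorInl f g) h _).trans (congrArg _ (eB.apply_symm_apply b))
    · show bcMap (tensorAlg f g) h (ψ (tnInr f g q c)) = tnInr f g q c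
      rw [show ψ (tnInr f g q c) = mC (eC.symm c) from tnLift_inr f g _ _ _ _]
      exact (bcMap_map (tensorInr f g) h _).trans (congrArg _ (eC.apply_symm_apply c))
  · letI := (f.app p).toRingHom.toAlgebra
    letI := (g.app p).toRingHom.toAlgebra
    haveI := (hA.2 p).2
    haveI := (hB.2 p).1
    haveI := (hB.2 p).2
    haveI := (hC.2 p).1
    haveI := (hC.2 p).2
    haveI : IsScalarTower (X.ring p) (A.carrier p) (C.carrier p) :=
      IsScalarTower.of_algebraMap_eq fun r => ((g.app p).commutes r).symm
    haveI : IsScalarTower (X.ring p) (A.carrier p) (B.carrier p) :=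
      IsScalarTower.of_algebraMap_eq fun r => ((f.app p).commutes r).symm
    exact finite_etale_tensor (A := A.carrier p) (B := B.carrier p) (C := C.carrier p)
      (instAlgebraTn f g p) fun _ => rfl

section FEt

variable {A B C : FEt X} (f : A ⟶ B) (g : A ⟶ C)

/-- the pushout of étale covers -/
noncomputable def pushoutObj : FEt X :=
  ⟨tensorAlg f.hom g.hom, tensorAlg_isEtCover f.hom g.hom A.property B.property C.property⟩

/-- left inclusion -/
noncomputable def pushoutInl : B ⟶ pushoutObj f g := ObjectProperty.homMk (tensorInl f.hom g.hom)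
/-- right inclusion -/
noncomputable def pushoutInr : C ⟶ pushoutObj f g := ObjectProperty.homMk (tensorInr f.hom g.hom)

theorem pushout_w : f ≫ pushoutInl f g = g ≫ pushoutInr f g :=
  ObjectProperty.hom_ext _ (tensor_w f.hom g.hom)

/-- the map out of a pushout at a point -/
noncomputable def descApp {T : FEt X} (u : B ⟶ T) (v : C ⟶ T) (w : f ≫ u = g ≫ v) (p : X.pt) :
    Tn f.hom g.hom p →+* T.obj.carrier p :=
  tnLift f.hom g.hom (u.hom.app p).toRingHom (v.hom.app p).toRingHom (fun a => hom_congr w p a)

theorem descApp_inl {T : FEt X} (u : B ⟶ T) (v : C ⟶ T) (w : f ≫ u = g ≫ v) (p : X.pt) (b : B.obj.carrier p) :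
    descApp f g u v w p (tnInl f.hom g.hom p b) = u.hom.app p b :=
  tnLift_inl f.hom g.hom _ _ _ b

theorem descApp_inr {T : FEt X} (u : B ⟶ T) (v : C ⟶ T) (w : f ≫ u = g ≫ v) (p : X.pt) (c : C.obj.carrier p) :
    descApp f g u v w p (tnInr f.hom g.hom p c) = v.hom.app p c :=
  tnLift_inr f.hom g.hom _ _ _ c

/-- the map out of a pushout -/
noncomputable def pushoutDesc {T : FEt X} (u : B ⟶ T) (v : C ⟶ T) (w : f ≫ u = g ≫ v) : pushoutObj f g ⟶ T :=
  ObjectProperty.homMk
    ({ app := fun p =>
        { descApp f g u v w p with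
          commutes' := fun r => (descApp_inl f g u v w p _).trans ((u.hom.app p).commutes r) }
       compat := fun {p q} h t => RingHom.congr_fun (tn_ext f.hom g.hom
        (φ := (T.obj.res h).comp (descApp f g u v w p))
        (ψ := (descApp f g u v w q).comp (tnRes f.hom g.hom h))
        (fun b => by
          rw [RingHom.comp_apply, RingHom.comp_apply, descApp_inl, tnRes_inl, descApp_inl]
          exact u.hom.compat h b)
        (fun c => by
          rw [RingHom.comp_apply, RingHom.comp_apply, descApp_inr, tnRes_inr, descApp_inr]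
          exact v.hom.compat h c)) t } : tensorAlg f.hom g.hom ⟶ T.obj)

/-- the pushout cocone is a colimit -/
noncomputable def pushoutIsColimit :
    IsColimit (PushoutCocone.mk _ _ (pushout_w f g)) :=
  PushoutCocone.IsColimit.mk _ (fun s => pushoutDesc f g s.inl s.inr s.condition)
    (fun s => fet_ext fun p b => descApp_inl f g s.inl s.inr s.condition p b)
    (fun s => fet_ext fun p c => descApp_inr f g s.inl s.inr s.condition p c)
    (fun s m h₁ h₂ => fet_ext fun p t =>
      RingHom.congr_fun (tn_ext f.hom g.hom (φ := (m.hom.app p).toRingHom)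
        (ψ := descApp f g s.inl s.inr s.condition p)
        (fun b => (hom_congr h₁ p b).trans (descApp_inl f g s.inl s.inr s.condition p b).symm)
        (fun c => (hom_congr h₂ p c).trans (descApp_inr f g s.inl s.inr s.condition p c).symm)) t)

theorem hasPushouts : HasPushouts (FEt X) :=
  haveI : ∀ {A B C : FEt X} {f : A ⟶ B} {g : A ⟶ C}, HasColimit (span f g) :=
    fun {_ _ _ f g} => ⟨⟨⟨_, pushoutIsColimit f g⟩⟩⟩
  hasPushouts_of_hasColimit_span _

end FEt

end Groth.L18.SchFin
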