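import Groth.Agent.L18.SchFin.H0
import Mathlib.RingTheory.LocalRing.ResidueField.Basic
import Mathlib.RingTheory.Flat.Localization

/-!
Primes of a schematic finite space: localizations, residue fields, related pairs, connectedness.
-/

set_option autoImplicit false
universe u

open TensorProduct SchFin

namespace Groth.L18.SchFin

variable {X : RSpace.{u}}

theorem flat_res (hX : X.IsSchematic) {x a : X.pt} (h : x ≤ a) :
    letI := resAlg X h; Module.Flat (X.ring x) (X.ring a) :=
  hX.1.2 x a h

theorem bijective_localRingHom_res (hX : X.IsSchematic) {x y : X.pt} (h : x ≤ y) (P : Ideal (X.ring y))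
    [P.IsPrime] :
    Function.Bijective (Localization.localRingHom (P.comap (X.res h)) P (X.res h) rfl) := by
  let A := Localization.AtPrime (P.comap (X.res h))
  let B := Localization.AtPrime P
  let g : A →+* B := Localization.localRingHom (P.comap (X.res h)) P (X.res h) rfl
  letI : Algebra A B := g.toAlgebra
  haveI : IsLocalHom (algebraMap A B) := Localization.isLocalHom_localRingHom _ P (X.res h) rfl
  haveI : Module.Flat A B := by
    letI := resAlg X h
    haveI := flat_res hX h
    haveI : IsScalarTower (X.ring x) A B := IsScalarTower.of_algebraMap_eq fun r =>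
      (Localization.localRingHom_to_map _ P (X.res h) rfl r).symm
    haveI : Module.Flat (X.ring y) B := IsLocalization.flat B P.primeCompl
    haveI : Module.Flat (X.ring x) B := Module.Flat.trans (X.ring x) (X.ring y) B
    exact (Module.flat_iff_of_isLocalization A (P.comap (X.res h)).primeCompl B).mpr inferInstance
  haveI : Module.FaithfullyFlat A B := Module.FaithfullyFlat.of_flat_of_isLocalHom
  haveI : Algebra.IsEpi A B := by
    refine (Algebra.isEpi_iff_forall_one_tmul_eq A B).mpr fun b => ?_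
    have e : (Algebra.TensorProduct.includeLeftRingHom : B →+* B ⊗[A] B) =
        (Algebra.TensorProduct.includeRight : B →ₐ[A] B ⊗[A] B).toRingHom := by
      refine IsLocalization.ringHom_ext P.primeCompl (ringHom_ext_res hX h (RingHom.ext fun r => ?_))
      have hr : algebraMap (X.ring y) B (X.res h r) = algebraMap A B (algebraMap (X.ring x) A r) :=
        (Localization.localRingHom_to_map _ P (X.res h) rfl r).symm
      show algebraMap (X.ring y) B (X.res h r) ⊗ₜ[A] (1 : B) = (1 : B) ⊗ₜ[A] algebraMap (X.ring y) B (X.res h r)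
      rw [hr]
      exact Algebra.TensorProduct.tmul_one_eq_one_tmul _
    exact (RingHom.congr_fun e b).symm
  exact bijective_of_faithfullyFlat_of_isEpi (A := A) (B := B)

theorem bijective_κMap (hX : X.IsSchematic) (a b : X.Pair) (h : a.1 ≤ b.1)
    (hp : PrimeSpectrum.comap (X.res h) b.2 = a.2) : Function.Bijective (RSpace.Pair.κMap a b h hp) := by
  obtain ⟨x, P⟩ := a
  suffices key : ∀ (P : PrimeSpectrum (X.ring x)) (hp : PrimeSpectrum.comap (X.res h) b.2 = P),
      Function.Bijective (RSpace.Pair.κMap ⟨x, P⟩ b h hp) from key P hp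
  rintro _ rfl
  haveI := Localization.isLocalHom_localRingHom _ b.2.asIdeal (X.res h) (rfl : (PrimeSpectrum.comap (X.res h) b.2).asIdeal = _)
  refine ⟨RingHom.injective _, fun z => ?_⟩
  obtain ⟨z, rfl⟩ := IsLocalRing.residue_surjective z
  obtain ⟨w, rfl⟩ := (bijective_localRingHom_res hX h b.2.asIdeal).2 z
  exact ⟨IsLocalRing.residue _ w, rfl⟩

variable (X) in
/-- the faithfully flat hypothesis on common parts of minimal open sets -/
def HFF : Prop :=
  ∀ s a b : X.pt, s ≤ a → s ≤ b → (X.up a ∩ X.up b).Nonempty →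
    Module.FaithfullyFlat (X.sectRing (X.up a ∩ X.up b)) ((q : ↥(X.up a ∩ X.up b)) → X.ring q.1)

theorem pairRel_of_comap_eq (hX : X.IsSchematic) (hff : HFF X) {s x y : X.pt} (hx : s ≤ x) (hy : s ≤ y)
    (P : PrimeSpectrum (X.ring x)) (Q : PrimeSpectrum (X.ring y))
    (hPQ : PrimeSpectrum.comap (X.res hx) P = PrimeSpectrum.comap (X.res hy) Q) :
    X.PairRel ⟨x, P⟩ ⟨y, Q⟩ := by
  obtain ⟨r, hrP, hrQ⟩ := exists_prime_sect hX hx hy P Q hPQ
  haveI := hff s x y hx hy (nonempty_inter hX hx hy P Q hPQ)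
  obtain ⟨t, ht⟩ := PrimeSpectrum.comap_surjective_of_faithfullyFlat
    (A := X.sectRing (X.up x ∩ X.up y)) (B := (q : ↥(X.up x ∩ X.up y)) → X.ring q.1) r
  obtain ⟨⟨q, t'⟩, rfl⟩ := (PrimeSpectrum.sigmaToPi_bijective _).2 t
  refine ⟨q.1, q.2.1, q.2.2, t', ?_, ?_⟩
  · show _ = P
    rw [← hrP, ← ht]
    rfl
  · show _ = Q
    rw [← hrQ, ← ht]
    rfl

theorem pairRel_equivalence (hX : X.IsSchematic) (hff : HFF X) : Equivalence X.PairRel where
  refl a := ⟨a.1, le_rfl, le_rfl, a.2, by
    constructor <;>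
      exact PrimeSpectrum.ext (Ideal.ext fun t => by
        show X.res le_rfl t ∈ a.2.asIdeal ↔ _; rw [X.res_self])⟩
  symm := fun ⟨z, hx, hy, r, h1, h2⟩ => ⟨z, hy, hx, r, h2, h1⟩
  trans := fun {a b c} ⟨z, ha, hb, r, h1, h2⟩ ⟨z', hb', hc, r', h1', h2'⟩ => by
    obtain ⟨w, hz, hz', t, e, e'⟩ := pairRel_of_comap_eq hX hff hb hb' r r' (h2.trans h1'.symm)
    replace e : PrimeSpectrum.comap (X.res hz) t = r := e
    replace e' : PrimeSpectrum.comap (X.res hz') t = r' := e'
    refine ⟨w, ha.trans hz, hc.trans hz', t, ?_, ?_⟩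
    · rw [← h1, ← e, ← PrimeSpectrum.comap_comp_apply]
      congr 2
      exact RingHom.ext fun q => (X.res_comp ha hz q).symm
    · rw [← h2', ← e', ← PrimeSpectrum.comap_comp_apply]
      congr 2
      exact RingHom.ext fun q => (X.res_comp hc hz' q).symm

theorem existsUnique_maximal (hX : X.IsSchematic) (hff : HFF X) (c : X.SchPt) :
    ∃! a : X.Pair, Quot.mk X.PairRel a = c ∧ ∀ b : X.Pair, Quot.mk X.PairRel b = c → b.1 ≤ a.1 := by
  have heq := pairRel_equivalence hX hff
  have hrel : ∀ a b : X.Pair, Quot.mk X.PairRel a = Quot.mk X.PairRel b → X.PairRel a b :=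
    fun a b h => heq.eqvGen_iff.mp (Quot.eqvGen_exact h)
  let S : Set X.pt := {p | ∃ P, Quot.mk X.PairRel ⟨p, P⟩ = c}
  obtain ⟨a₀, ha₀⟩ := Quot.exists_rep c
  obtain ⟨m, ⟨P, hP⟩, hm⟩ := S.toFinite.exists_maximal ⟨a₀.1, a₀.2, ha₀⟩
  have htop : ∀ b : X.Pair, Quot.mk X.PairRel b = c → b.1 ≤ m := by
    intro b hb
    obtain ⟨z, hz, hz', r, e, e'⟩ := hrel ⟨m, P⟩ b (hP.trans hb.symm)
    have hrz : Quot.mk X.PairRel ⟨z, r⟩ = c := by
      rw [← hP]
      refine Quot.sound ⟨z, le_rfl, hz, r, ?_, e⟩
      exact PrimeSpectrum.ext (Ideal.ext fun t => by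
        show X.res le_rfl t ∈ r.asIdeal ↔ _; rw [X.res_self])
    exact hz'.trans (hm ⟨r, hrz⟩ hz)
  refine ⟨⟨m, P⟩, ⟨hP, htop⟩, fun ⟨m', P'⟩ ⟨hP', htop'⟩ => ?_⟩
  obtain rfl : m' = m := le_antisymm (htop ⟨m', P'⟩ hP') (htop' ⟨m, P⟩ hP)
  obtain ⟨z, hz, hz', r, e, e'⟩ := hrel ⟨m', P'⟩ ⟨m', P⟩ (hP'.trans hP.symm)
  exact congrArg (Sigma.mk m') (e.symm.trans e')

section Connected

theorem connected_iff (hX : X.IsSchematic) :
    X.IsWellConnected ↔ (X.IsTopConnected ∧ X.IsPwConnected) := by
  classical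
  constructor
  · rintro ⟨hc, hp⟩
    refine ⟨⟨?_, fun p q => ?_⟩, hp⟩
    · haveI : ConnectedSpace (PrimeSpectrum (X.sectRing Set.univ)) := hc
      haveI := nontrivial_of_connected (R := X.sectRing Set.univ)
      by_contra h
      rw [not_nonempty_iff] at h
      exact zero_ne_one (α := X.sectRing Set.univ) (Subtype.ext (funext fun t => (h.false t.1).elim))
    · haveI : ConnectedSpace (PrimeSpectrum (X.sectRing Set.univ)) := hc
      let rel := Relation.EqvGen (fun a b : X.pt => a ≤ b)
      let e : X.sectRing Set.univ := ⟨fun t => if rel p t.1 then 1 else 0, fun t t' h => by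
        have : rel p t.1 ↔ rel p t'.1 :=
          ⟨fun h1 => h1.trans _ _ _ (.rel _ _ h), fun h1 => h1.trans _ _ _ (.symm _ _ (.rel _ _ h))⟩
        by_cases h1 : rel p t.1
        · simp [h1, this.mp h1]
        · simp [h1, mt this.mpr h1]⟩
      have he : IsIdempotentElem e := Subtype.ext (funext fun t => by
        show e.1 t * e.1 t = e.1 t
        by_cases h1 : rel p t.1 <;> simp [e, h1])
      by_contra hpq
      rcases eq_zero_or_one_of_connected he with h0 | h1
      · haveI : ConnectedSpace (PrimeSpectrum (X.ring p)) := hp p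
        haveI := nontrivial_of_connected (R := X.ring p)
        have h2 : (if rel p p then (1 : X.ring p) else 0) = 0 :=
          congrFun (congrArg Subtype.val h0) ⟨p, trivial⟩
        rw [if_pos (.refl p)] at h2
        exact one_ne_zero h2
      · haveI : ConnectedSpace (PrimeSpectrum (X.ring q)) := hp q
        haveI := nontrivial_of_connected (R := X.ring q)
        have h2 : (if rel p q then (1 : X.ring q) else 0) = 1 :=
          congrFun (congrArg Subtype.val h1) ⟨q, trivial⟩
        rw [if_neg hpq] at h2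
        exact zero_ne_one h2
  · rintro ⟨⟨⟨p₀⟩, htc⟩, hp⟩
    refine ⟨?_, hp⟩
    haveI : ∀ t, ConnectedSpace (PrimeSpectrum (X.ring t)) := hp
    haveI : ∀ t, Nontrivial (X.ring t) := fun t => nontrivial_of_connected
    haveI : Nontrivial (X.sectRing Set.univ) :=
      (X.evalRing Set.univ ⟨p₀, trivial⟩).domain_nontrivial
    refine connectedSpace_of_idem fun e he => ?_
    have hev : ∀ t : X.pt, e.1 ⟨t, trivial⟩ = 0 ∨ e.1 ⟨t, trivial⟩ = 1 := fun t =>
      eq_zero_or_one_of_connected (congrFun (congrArg Subtype.val he) ⟨t, trivial⟩)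
    have hstep : ∀ a b, Relation.EqvGen (fun a b : X.pt => a ≤ b) a b →
        (e.1 ⟨a, trivial⟩ = 0 ↔ e.1 ⟨b, trivial⟩ = 0) := by
      intro a b hab
      induction hab with
      | rel a b h =>
        have hab := e.2 ⟨a, trivial⟩ ⟨b, trivial⟩ h
        refine ⟨fun h0 => by rw [← hab, h0, map_zero], fun h0 => (hev a).resolve_right fun h1 => ?_⟩
        rw [h1, map_one, h0] at hab
        exact one_ne_zero hab
      | refl a => rfl
      | symm a b _ ih => exact ih.symm
      | trans a b c _ _ ih ih' => exact ih.trans ih'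
    rcases hev p₀ with h0 | h1
    · exact Or.inl (Subtype.ext (funext fun t => (hstep p₀ t.1 (htc _ _)).mp h0))
    · refine Or.inr (Subtype.ext (funext fun t => (hev t.1).resolve_left fun h => ?_))
      exact one_ne_zero (h1.symm.trans ((hstep p₀ t.1 (htc _ _)).mpr h))

/-- a property of points invariant along the order is constant on a connected space -/
theorem iff_of_topConnected (h : X.IsTopConnected) {S : X.pt → Prop}
    (hS : ∀ a b, a ≤ b → (S a ↔ S b)) (a b : X.pt) : S a ↔ S b := by
  induction h.2 a b with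
  | rel a b h => exact hS a b h
  | refl a => rfl
  | symm a b _ ih => exact ih.symm
  | trans a b c _ _ ih ih' => exact ih.trans ih'

end Connected

end Groth.L18.SchFin
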